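import Cfsg.Agent.R2.Spec.X4.Iface

/-!
# Box X4 of S3435: consequences of the interface (helper19)
-/

set_option autoImplicit false
set_option linter.unusedVariables false

namespace Cfsg.Agent.R2.Spec.X4

open Cfsg.Agent.H376.Six

universe u v

/-! ### the sides -/

section

variable {q k A k' B : ℕ}

theorem Side.odd_q (h : Side q k A k' B) : q % 2 = 1 := by
  rcases h with h | h <;> omega

theorem cube_mod_four {q : ℕ} : (q % 4 = 3 → q ^ 3 % 4 = 3) ∧ (q % 4 = 1 → q ^ 3 % 4 = 1) := by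
  constructor <;> intro h <;> rw [Nat.pow_mod, h]

theorem Side.A_odd (h : Side q k A k' B) : A % 2 = 1 := by
  rcases h with ⟨h1, -, rfl, -, -⟩ | ⟨h1, -, rfl, -, -⟩
  · have := cube_mod_four.1 h1; omega
  · have := cube_mod_four.2 h1; omega

theorem Side.B_even (h : Side q k A k' B) : B % 2 = 0 := by
  rcases h with ⟨h1, -, -, -, rfl⟩ | ⟨h1, -, -, -, rfl⟩
  · have := cube_mod_four.1 h1; omega
  · have := cube_mod_four.2 h1; omega

/-- `2 A = q³ ± 1`, `2 B = q³ ∓ 1` -/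
theorem Side.two_mul (h : Side q k A k' B) :
    (q % 4 = 3 ∧ 2 * A + 1 = q ^ 3 ∧ 2 * B = q ^ 3 + 1 ∧ B = A + 1) ∨
      (q % 4 = 1 ∧ 2 * A = q ^ 3 + 1 ∧ 2 * B + 1 = q ^ 3 ∧ A = B + 1) := by
  rcases h with ⟨h1, -, rfl, -, rfl⟩ | ⟨h1, -, rfl, -, rfl⟩
  · have := cube_mod_four.1 h1; omega
  · have := cube_mod_four.2 h1; omega

theorem Side.diff (h : Side q k A k' B) : A = B + 1 ∨ B = A + 1 := by
  rcases h.two_mul with h | h <;> omega

theorem Side.coprime (h : Side q k A k' B) : A.Coprime B := by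
  rcases h.diff with h | h
  · rw [h, Nat.coprime_self_add_left]; exact Nat.coprime_one_left _
  · rw [h]; exact Nat.coprime_self_add_right.2 (Nat.coprime_one_right _)

theorem Side.kA (h : Side q k A k' B) (hq : 2 ≤ q) : k ∣ A := by
  have ho := h.odd_q
  rcases h with ⟨h1, rfl, rfl, -, -⟩ | ⟨h1, rfl, rfl, -, -⟩
  · exact ap_dvd_half hq ho
  · exact am_dvd_half hq ho

theorem Side.kB (h : Side q k A k' B) (hq : 2 ≤ q) : k' ∣ B := by
  have ho := h.odd_q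
  rcases h with ⟨h1, -, -, rfl, rfl⟩ | ⟨h1, -, -, rfl, rfl⟩
  · exact am_dvd_half hq ho
  · exact ap_dvd_half hq ho

/-- lower bounds -/
theorem Side.k_ge (h : Side q k A k' B) (hq : 2 ≤ q) : q ^ 2 - q + 1 ≤ 3 * k ∧ q ^ 2 - q + 1 ≤ 3 * k' := by
  have h1 := three_ap hq
  have h2 := three_am hq
  rcases h with ⟨-, rfl, -, rfl, -⟩ | ⟨-, rfl, -, rfl, -⟩
  · exact ⟨by omega, h2⟩
  · exact ⟨h2, by omega⟩

/-- upper bounds -/
theorem Side.k_le (h : Side q k A k' B) (hq : 2 ≤ q) : k ≤ q ^ 2 + q + 1 ∧ k' ≤ q ^ 2 + q + 1 := by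
  have h1 := Nat.le_of_dvd (by positivity) (ap_dvd hq)
  have h2 := Nat.le_of_dvd (by positivity) (am_dvd hq)
  rcases h with ⟨-, rfl, -, rfl, -⟩ | ⟨-, rfl, -, rfl, -⟩
  · exact ⟨h1, by omega⟩
  · exact ⟨by omega, h1⟩

/-- the cofactors: `k g = q² ± q + 1`, `k' g' = q² ∓ q + 1`, `g, g' ∈ {1, 3}` -/
theorem Side.cof (h : Side q k A k' B) (hq : 2 ≤ q) :
    (q % 4 = 3 ∧ (k = q ^ 2 + q + 1 ∨ 3 * k = q ^ 2 + q + 1 ∧ q % 3 = 1) ∧
      (k' = q ^ 2 - q + 1 ∨ 3 * k' = q ^ 2 - q + 1 ∧ q % 3 = 2)) ∨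
    (q % 4 = 1 ∧ (k' = q ^ 2 + q + 1 ∨ 3 * k' = q ^ 2 + q + 1 ∧ q % 3 = 1) ∧
      (k = q ^ 2 - q + 1 ∨ 3 * k = q ^ 2 - q + 1 ∧ q % 3 = 2)) := by
  have h1 := (ap_spec hq).1
  have h2 := (am_spec hq).1
  have g1 : Nat.gcd 3 (q - 1) = 1 ∨ Nat.gcd 3 (q - 1) = 3 ∧ q % 3 = 1 := by
    rcases (Nat.dvd_prime Nat.prime_three).1 (Nat.gcd_dvd_left 3 (q - 1)) with h | h
    · exact Or.inl h
    · have h3 : 3 ∣ q - 1 := by rw [← h]; exact Nat.gcd_dvd_right 3 (q - 1)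
      exact Or.inr ⟨h, by omega⟩
  have g2 : Nat.gcd 3 (q + 1) = 1 ∨ Nat.gcd 3 (q + 1) = 3 ∧ q % 3 = 2 := by
    rcases (Nat.dvd_prime Nat.prime_three).1 (Nat.gcd_dvd_left 3 (q + 1)) with h | h
    · exact Or.inl h
    · have h3 : 3 ∣ q + 1 := by rw [← h]; exact Nat.gcd_dvd_right 3 (q + 1)
      exact Or.inr ⟨h, by omega⟩
  have e1 : ap q = q ^ 2 + q + 1 ∨ 3 * ap q = q ^ 2 + q + 1 ∧ q % 3 = 1 := by
    rcases g1 with g | ⟨g, g'⟩
    · left; rw [g, mul_one] at h1; exact h1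
    · right; rw [g, mul_comm] at h1; exact ⟨h1, g'⟩
  have e2 : am q = q ^ 2 - q + 1 ∨ 3 * am q = q ^ 2 - q + 1 ∧ q % 3 = 2 := by
    rcases g2 with g | ⟨g, g'⟩
    · left; rw [g, mul_one] at h2; exact h2
    · right; rw [g, mul_comm] at h2; exact ⟨h2, g'⟩
  rcases h with ⟨h3, rfl, -, rfl, -⟩ | ⟨h3, rfl, -, rfl, -⟩
  · exact Or.inl ⟨h3, e1, e2⟩
  · exact Or.inr ⟨h3, e1, e2⟩

/-- `k k' = (q⁴ + q² + 1) / (1 or 3)` -/
theorem Side.mul (h : Side q k A k' B) (hq : 2 ≤ q) : q ^ 4 + q ^ 2 + 1 ≤ 3 * (k * k') ∧ k * k' ≤ q ^ 4 + q ^ 2 + 1 := by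
  have h4 : (q ^ 2 + q + 1) * (q ^ 2 - q + 1) = q ^ 4 + q ^ 2 + 1 := by
    have h5 : q ≤ q ^ 2 := by nlinarith
    zify [h5]
    ring
  have key : ∀ a b : ℕ, (a = q ^ 2 + q + 1 ∨ 3 * a = q ^ 2 + q + 1 ∧ q % 3 = 1) →
      (b = q ^ 2 - q + 1 ∨ 3 * b = q ^ 2 - q + 1 ∧ q % 3 = 2) →
      q ^ 4 + q ^ 2 + 1 ≤ 3 * (a * b) ∧ a * b ≤ q ^ 4 + q ^ 2 + 1 := by
    intro a b ha hb
    rcases ha with ha | ⟨ha, ha'⟩ <;> rcases hb with hb | ⟨hb, hb'⟩
    · rw [ha, hb, h4]; omega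
    · have e : 3 * (a * b) = q ^ 4 + q ^ 2 + 1 := by
        rw [← h4, ← ha, ← hb]; ring
      rw [e]; omega
    · have e : 3 * (a * b) = q ^ 4 + q ^ 2 + 1 := by
        rw [← h4, ← ha, ← hb]; ring
      rw [e]; omega
    · omega
  rcases h.cof hq with ⟨-, h1, h2⟩ | ⟨-, h1, h2⟩
  · exact key k k' h1 h2
  · rw [mul_comm k k']; exact key k' k h1 h2

/-- the primes of `k k'` -/
theorem Side.prime (h : Side q k A k' B) (hq : 2 ≤ q) {r : ℕ} (hr : r.Prime) (hk : r ∣ k ∨ r ∣ k') :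
    7 ≤ r ∧ r % 3 = 1 ∧ ¬ r ∣ q ∧ ¬ r ∣ q ^ 4 - 1 := by
  have key : r ∣ ap q ∨ r ∣ am q := by
    rcases h with ⟨-, rfl, -, rfl, -⟩ | ⟨-, rfl, -, rfl, -⟩
    · exact hk
    · exact hk.symm
  have h3 : 3 ∣ r - 1 := by
    have := Fact.mk hr
    have root : ∀ {a : ZMod r}, r ≠ 3 → a ^ 2 + a + 1 = 0 → 3 ∣ r - 1 := by
      intro a h3 h
      have h1 : a ^ 3 = 1 := by linear_combination (a - 1) * h
      have h2 : a ≠ 1 := by
        rintro rfl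
        have h4 : ((3 : ℕ) : ZMod r) = 0 := by push_cast; linear_combination h
        rw [ZMod.natCast_eq_zero_iff] at h4
        exact h3 ((Nat.prime_dvd_prime_iff_eq hr Nat.prime_three).1 h4)
      have h4 : orderOf a = 3 := orderOf_eq_prime h1 h2
      have h5 : a ≠ 0 := by rintro rfl; simp at h
      rw [← h4]
      exact ZMod.orderOf_dvd_card_sub_one h5
    rcases key with h | h
    · apply root (ap_ne hq hr h).2.1 (a := ((q : ℤ) : ZMod r))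
      have h1 := (ZMod.intCast_zmod_eq_zero_iff_dvd ((q : ℤ) ^ 2 + q + 1) r).2 (ap_dvd_int hq h)
      push_cast at h1 ⊢
      exact h1
    · apply root (am_ne hq hr h).2.1 (a := -((q : ℤ) : ZMod r))
      have h1 := (ZMod.intCast_zmod_eq_zero_iff_dvd ((q : ℤ) ^ 2 - q + 1) r).2 (am_dvd_int hq h)
      push_cast at h1 ⊢
      linear_combination h1
  have h2 : r ≠ 2 ∧ r ≠ 3 ∧ ¬ r ∣ q ∧ ¬ r ∣ q ^ 4 - 1 := by
    rcases key with h | h
    · obtain ⟨a, b, c⟩ := ap_ne hq hr h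
      exact ⟨a, b, c, ap_prime hq hr h⟩
    · obtain ⟨a, b, c⟩ := am_ne hq hr h
      exact ⟨a, b, c, am_prime hq hr h⟩
  obtain ⟨a, b, c, d⟩ := h2
  have h1 := hr.two_le
  have h5 : r ≠ 4 := by rintro rfl; revert hr; decide
  have h6 : r ≠ 6 := by rintro rfl; revert hr; decide
  refine ⟨by omega, by omega, c, d⟩

/-- `z = (q² + 1)/2` : odd, its primes are at least `5` -/
theorem Side.z (h : Side q k A k' B) : 2 * ((q ^ 2 + 1) / 2) = q ^ 2 + 1 ∧ (q ^ 2 + 1) / 2 % 2 = 1 := by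
  have h1 : q % 4 = 1 ∨ q % 4 = 3 := by rcases h with h | h <;> omega
  have h2 : q ^ 2 % 4 = 1 := by
    rcases h1 with h1 | h1 <;> rw [Nat.pow_mod, h1]
  omega

/-- the primes of `(q² + 1)/2` do not divide `q (q⁶ - 1)` -/
theorem Side.z_prime (h : Side q k A k' B) (hq : 2 ≤ q) {r : ℕ} (hr : r.Prime) (hz : r ∣ (q ^ 2 + 1) / 2) :
    5 ≤ r ∧ ¬ r ∣ q ∧ ¬ r ∣ A ∧ ¬ r ∣ B ∧ ¬ r ∣ q ^ 2 - 1 := by
  have h1 := h.z
  have hz' : r ∣ q ^ 2 + 1 := by rw [← h1.1]; exact hz.mul_left 2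
  have h2 : r ≠ 2 := by
    rintro rfl
    omega
  have hq0 : ¬ r ∣ q := by
    intro hd
    have h3 : r ∣ 1 := (Nat.dvd_add_right (hd.trans (dvd_pow_self q two_ne_zero))).1 hz'
    exact hr.one_lt.ne' (Nat.dvd_one.1 h3)
  have h3 : r ≠ 3 := by
    rintro rfl
    have h4 : q ^ 2 % 3 = 0 ∨ q ^ 2 % 3 = 1 := by
      have : q % 3 = 0 ∨ q % 3 = 1 ∨ q % 3 = 2 := by omega
      rcases this with h | h | h <;> rw [Nat.pow_mod, h] <;> norm_num
    omega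
  have h5 : 5 ≤ r := by
    have := hr.two_le
    have : r ≠ 4 := by rintro rfl; revert hr; decide
    omega
  -- integers
  have hzi : (r : ℤ) ∣ (q : ℤ) ^ 2 + 1 := by exact_mod_cast hz'
  have two : ¬ (r : ℤ) ∣ 2 := by
    intro hd
    have h6 : r ∣ 2 := by exact_mod_cast hd
    exact h2 ((Nat.prime_dvd_prime_iff_eq hr Nat.prime_two).1 h6)
  have hs : ¬ r ∣ q ^ 2 - 1 := by
    intro hd
    have h6 : (r : ℤ) ∣ (q : ℤ) ^ 2 - 1 := by
      have h7 : ((q ^ 2 - 1 : ℕ) : ℤ) = (q : ℤ) ^ 2 - 1 := by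
        push_cast [Nat.cast_sub (Nat.one_le_pow 2 q (by omega))]
        ring
      rw [← h7]; exact_mod_cast hd
    apply two
    have := dvd_sub hzi h6
    ring_nf at this ⊢
    exact this
  have hc : ¬ (r : ℤ) ∣ (q : ℤ) ^ 3 - 1 ∧ ¬ (r : ℤ) ∣ (q : ℤ) ^ 3 + 1 := by
    have key : ∀ e : ℤ, e ^ 2 = 1 → ¬ (r : ℤ) ∣ (q : ℤ) ^ 3 + e := by
      intro e he hd
      -- `q³ + e = q (q² + 1) - q + e`
      have h6 : (r : ℤ) ∣ (q : ℤ) - e := by
        have := dvd_sub (hzi.mul_left (q : ℤ)) hd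
        have e1 : (q : ℤ) * (q ^ 2 + 1) - (q ^ 3 + e) = q - e := by ring
        rwa [e1] at this
      apply two
      have h7 : (r : ℤ) ∣ (q : ℤ) ^ 2 - 1 := by
        have := h6.mul_left ((q : ℤ) + e)
        have e1 : ((q : ℤ) + e) * (q - e) = q ^ 2 - 1 := by linear_combination -he
        rwa [e1] at this
      have := dvd_sub hzi h7
      ring_nf at this ⊢
      exact this
    refine ⟨?_, key 1 (by norm_num)⟩
    have := key (-1) (by norm_num)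
    rwa [← sub_eq_add_neg] at this
  have half : ∀ X : ℕ, ((2 * X : ℕ) : ℤ) = (q : ℤ) ^ 3 - 1 ∨ ((2 * X : ℕ) : ℤ) = (q : ℤ) ^ 3 + 1 → ¬ r ∣ X := by
    intro X hX hd
    have h6 : (r : ℤ) ∣ ((2 * X : ℕ) : ℤ) := by exact_mod_cast hd.mul_left 2
    rcases hX with h7 | h7
    · rw [h7] at h6; exact hc.1 h6
    · rw [h7] at h6; exact hc.2 h6
  refine ⟨h5, hq0, ?_, ?_, hs⟩
  · rcases h.two_mul with ⟨-, a, b, -⟩ | ⟨-, a, b, -⟩
    · exact half A (Or.inl (by zify at a; push_cast; linarith))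
    · exact half A (Or.inr (by zify at a; push_cast; linarith))
  · rcases h.two_mul with ⟨-, a, b, -⟩ | ⟨-, a, b, -⟩
    · exact half B (Or.inr (by zify at b; push_cast; linarith))
    · exact half B (Or.inl (by zify at b; push_cast; linarith))

end

/-! ### the element orders of `L` -/

section

variable {p q k A k' B : ℕ} {W : ℕ → Prop}

theorem LW.q2 (h : LW p q k A k' B W) : 2 ≤ q := by have := h.q7; omega

theorem LW.q_odd (h : LW p q k A k' B W) : q % 2 = 1 := h.side.odd_q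

theorem LW.p_dvd (h : LW p q k A k' B W) : p ∣ q := by
  obtain ⟨e, he⟩ := h.qp
  have h1 : e ≠ 0 := by rintro rfl; have := h.q7; rw [he, pow_zero] at this; omega
  rw [he]
  exact dvd_pow_self p h1

theorem LW.p3 (h : LW p q k A k' B W) : 3 ≤ p := by
  have := h.pp.two_le
  have := h.p2
  omega

theorem LW.pq (h : LW p q k A k' B W) : p ≤ q := Nat.le_of_dvd (by have := h.q7; omega) h.p_dvd

theorem LW.k_pos (h : LW p q k A k' B W) : 1 < k ∧ 1 < k' := by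
  have h1 := h.side.k_ge h.q2
  have h2 := h.q7
  have h3 : q * 6 ≤ q ^ 2 - q := by
    have : q ^ 2 = q * q := sq q
    have h4 : q * 7 ≤ q * q := Nat.mul_le_mul_left q h2
    omega
  omega

/-- primes of `A`, `B` and `p` -/
theorem LW.p_not (h : LW p q k A k' B W) : ¬ p ∣ A ∧ ¬ p ∣ B := by
  have h1 := h.p_dvd
  have h2 : p ∣ q ^ 3 := h1.trans (dvd_pow_self q (by norm_num))
  have h3 := h.pp.one_lt
  constructor
  · intro hd
    rcases h.side.two_mul with ⟨-, a, -, -⟩ | ⟨-, a, -, -⟩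
    · have h4 : p ∣ 2 * A + 1 := by rw [a]; exact h2
      have h5 := (Nat.dvd_add_right (hd.mul_left 2)).1 h4
      exact h3.ne' (Nat.dvd_one.1 h5)
    · have h4 : p ∣ q ^ 3 + 1 := by rw [← a]; exact hd.mul_left 2
      have h5 := (Nat.dvd_add_right h2).1 h4
      exact h3.ne' (Nat.dvd_one.1 h5)
  · intro hd
    rcases h.side.two_mul with ⟨-, -, a, -⟩ | ⟨-, -, a, -⟩
    · have h4 : p ∣ q ^ 3 + 1 := by rw [← a]; exact hd.mul_left 2
      have h5 := (Nat.dvd_add_right h2).1 h4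
      exact h3.ne' (Nat.dvd_one.1 h5)
    · have h4 : p ∣ 2 * B + 1 := by rw [a]; exact h2
      have h5 := (Nat.dvd_add_right (hd.mul_left 2)).1 h4
      exact h3.ne' (Nat.dvd_one.1 h5)

theorem LW.Wk (h : LW p q k A k' B W) : W k ∧ W k' :=
  ⟨h.dvd _ _ h.WA (h.side.kA h.q2), h.dvd _ _ h.WB (h.side.kB h.q2)⟩

theorem LW.Wp (h : LW p q k A k' B W) : W p := h.dvd _ _ h.Wpz (dvd_mul_right _ _)

theorem LW.Wz (h : LW p q k A k' B W) : W ((q ^ 2 + 1) / 2) := h.dvd _ _ h.Wpz (dvd_mul_left _ _)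

/-- the primes of `k` are not adjacent to `2` -/
theorem LW.two (h : LW p q k A k' B W) {r : ℕ} (hr : r.Prime) (hk : r ∣ k) : ¬ W (2 * r) := by
  intro hW
  have h1 := h.uk r hr hk _ hW (dvd_mul_left _ _)
  have h2 : 2 ∣ A := (dvd_mul_right 2 r).trans h1
  have := h.side.A_odd
  omega

/-- no order is divisible by a prime of `k` and a prime of `k'` -/
theorem LW.na (h : LW p q k A k' B W) {r s n : ℕ} (hr : r.Prime) (hk : r ∣ k) (hs : s.Prime) (hk' : s ∣ k') (hW : W n)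
    (h1 : r ∣ n) (h2 : s ∣ n) : False := by
  have h3 := (h.uk r hr hk _ hW h1)
  have h4 := (h.uk' s hs hk' _ hW h2)
  have h5 := Nat.dvd_gcd h3 h4
  rw [h.side.coprime] at h5
  have h6 : r ∣ 1 := h1.trans h5
  exact hr.one_lt.ne' (Nat.dvd_one.1 h6)

/-- a prime of `(q² + 1)/2`, or `p`, is not adjacent to a prime of `k` or `k'` -/
theorem LW.naz (h : LW p q k A k' B W) {r s n : ℕ} (hr : r.Prime) (hk : r ∣ k ∨ r ∣ k') (hs : s.Prime)
    (hz : s ∣ (q ^ 2 + 1) / 2 ∨ s = p) (hW : W n) (h1 : r ∣ n) (h2 : s ∣ n) : False := by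
  have h3 : ¬ s ∣ A ∧ ¬ s ∣ B := by
    rcases hz with hz | rfl
    · obtain ⟨-, -, a, b, -⟩ := h.side.z_prime h.q2 hs hz
      exact ⟨a, b⟩
    · exact h.p_not
  rcases hk with hk | hk
  · exact h3.1 (h2.trans (h.uk r hr hk _ hW h1))
  · exact h3.2 (h2.trans (h.uk' r hr hk _ hW h1))

theorem LW.ne_kk (h : LW p q k A k' B W) {r s : ℕ} (hr : r.Prime) (hk : r ∣ k) (hk' : s ∣ k') : r ≠ s := by
  rintro rfl
  exact h.na hr hk hr hk' h.Wk.1 hk hk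

theorem LW.ne_kz (h : LW p q k A k' B W) {r s : ℕ} (hr : r.Prime) (hk : r ∣ k ∨ r ∣ k')
    (hz : s ∣ (q ^ 2 + 1) / 2 ∨ s = p) : r ≠ s := by
  rintro rfl
  rcases hz with hz | hz
  · exact h.naz hr hk hr (Or.inl hz) h.Wz hz hz
  · exact h.naz hr hk hr (Or.inr hz) h.Wp (by rw [hz]) (by rw [hz])

end

/-! ### the simple section -/

section

variable {p q k A k' B m i : ℕ} {W : ℕ → Prop} {S : Type u} [Group S]

theorem SX.W_prime (h : SX p q k A k' B m i W S) {r : ℕ} (hr : r.Prime) (hk : r ∣ k ∨ r ∣ k' ∨ r ∣ (q ^ 2 + 1) / 2 ∨ r = p) :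
    W r := by
  rcases hk with hk | hk | hk | rfl
  · exact h.lw.dvd _ _ h.lw.Wk.1 hk
  · exact h.lw.dvd _ _ h.lw.Wk.2 hk
  · exact h.lw.dvd _ _ h.lw.Wz hk
  · exact h.lw.Wp

/-- a good prime divides `|S|` -/
theorem SX.dvd_card (h : SX p q k A k' B m i W S) {r : ℕ} (hr : r.Prime) (hW : W r) (h1 : ¬ r ∣ m) (h2 : ¬ r ∣ i) :
    r ∣ Nat.card S := by
  rcases h.cov r hr hW with h3 | h3 | h3
  · exact h3
  · exact absurd h3 h1
  · exact absurd h3 h2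

/-- the primes of `k` are good -/
theorem SX.good_k (h : SX p q k A k' B m i W S) (hg : Good W m i) {r : ℕ} (hr : r.Prime) (hk : r ∣ k) :
    ¬ r ∣ m ∧ ¬ r ∣ i := by
  have h1 := h.lw.side.prime h.lw.q2 hr (Or.inl hk)
  exact hg r hr (by omega) (h.W_prime hr (Or.inl hk)) (h.lw.two hr hk)

/-- `k ∈ ω(S)` -/
theorem SX.kS (h : SX p q k A k' B m i W S) (hg : Good W m i) : ∃ x : S, orderOf x = k := by
  refine h.mem _ h.lw.Wk.1 ?_
  refine Nat.Coprime.mul_right ?_ ?_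
  · exact Nat.coprime_of_dvd fun r hr hk hm => (h.good_k hg hr hk).1 hm
  · exact Nat.coprime_of_dvd fun r hr hk hm => (h.good_k hg hr hk).2 hm

/-- the primes of `k` are not adjacent to `2` in `S` -/
theorem SX.twoS (h : SX p q k A k' B m i W S) {r : ℕ} (hr : r.Prime) (hk : r ∣ k) : ¬ ∃ x : S, orderOf x = 2 * r := by
  rintro ⟨x, hx⟩
  have h1 := h.WS x
  rw [hx] at h1
  exact h.lw.two hr hk h1

theorem SX.uk (h : SX p q k A k' B m i W S) {r : ℕ} (hr : r.Prime) (hk : r ∣ k) (x : S) (hx : r ∣ orderOf x) :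
    orderOf x ∣ A := h.lw.uk r hr hk _ (h.WS x) hx

theorem SX.uk' (h : SX p q k A k' B m i W S) {r : ℕ} (hr : r.Prime) (hk : r ∣ k') (x : S) (hx : r ∣ orderOf x) :
    orderOf x ∣ B := h.lw.uk' r hr hk _ (h.WS x) hx

/-- **Exactness**, in the form: the primes of `|K|` divide `B`. -/
theorem SX.exact (h : SX p q k A k' B m i W S) (hg : Good W m i) (hK : ∀ s : ℕ, s.Prime → s ∣ m → s ∣ B) {r : ℕ}
    (hr : r.Prime) (hk : r ∣ k) : ∃ a N : ℕ, A = a * N ∧ a ∣ i ∧ r ∣ N ∧ ∃ x : S, orderOf x = N := by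
  obtain ⟨h1, h2⟩ := h.good_k hg hr hk
  obtain ⟨a, N, c, e, ha, hx, hrN, hc⟩ := h.ex A h.lw.WA r hr (hk.trans (h.lw.side.kA h.lw.q2)) h1 h2
  have hc1 : c = 1 := by
    by_contra hne
    obtain ⟨s, hs, hsc⟩ := Nat.exists_prime_and_dvd hne
    have h3 := hK s hs (hc s hs hsc)
    have h4 : s ∣ A := by rw [e]; exact hsc.mul_left _
    have h5 := Nat.dvd_gcd h4 h3
    rw [h.lw.side.coprime] at h5
    exact hs.one_lt.ne' (Nat.dvd_one.1 h5)
  rw [hc1, mul_one] at e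
  exact ⟨a, N, e, ha, hrN, hx⟩

/-- exactness, the general form -/
theorem SX.exact' (h : SX p q k A k' B m i W S) (hg : Good W m i) {r : ℕ} (hr : r.Prime) (hk : r ∣ k) :
    ∃ a N c : ℕ, A = a * N * c ∧ a ∣ i ∧ r ∣ N ∧ (∃ x : S, orderOf x = N) ∧ ∀ s : ℕ, s.Prime → s ∣ c → s ∣ m := by
  obtain ⟨h1, h2⟩ := h.good_k hg hr hk
  obtain ⟨a, N, c, e, ha, hx, hrN, hc⟩ := h.ex A h.lw.WA r hr (hk.trans (h.lw.side.kA h.lw.q2)) h1 h2
  exact ⟨a, N, c, e, ha, hrN, hx, hc⟩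

/-- the primes of `|K|` divide `B` if a prime of `k'` divides `|S|` and is adjacent to all primes of `|K|` -/
theorem SX.K_dvd (h : SX p q k A k' B m i W S) {w : ℕ} (hw : w.Prime) (hk : w ∣ k')
    (hadj : ∀ s : ℕ, s.Prime → s ∣ m → s ≠ w → W (w * s)) : ∀ s : ℕ, s.Prime → s ∣ m → s ∣ B := by
  intro s hs hsm
  by_cases hsw : s = w
  · rw [hsw]
    exact hk.trans (h.lw.side.kB h.lw.q2)
  · exact (dvd_mul_left s w).trans (h.lw.uk' w hw hk _ (hadj s hs hsm hsw) (dvd_mul_right _ _))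

/-- **The two states.** -/
theorem SX.dich (h : SX p q k A k' B m i W S) :
    (∀ r : ℕ, r.Prime → r ∣ k' → ¬ r ∣ m ∧ ¬ r ∣ i) ∨
      ((∃ w : ℕ, w.Prime ∧ w ∣ k' ∧ w ∣ m * i) ∧
        ∀ r : ℕ, r.Prime → (r ∣ (q ^ 2 + 1) / 2 ∨ r = p) → ¬ r ∣ m ∧ ¬ r ∣ i) := by
  by_cases hw : ∃ w : ℕ, w.Prime ∧ w ∣ k' ∧ w ∣ m * i
  · right
    refine ⟨hw, ?_⟩
    obtain ⟨w, hwp, hwk, hwb⟩ := hw
    obtain ⟨r₀, hr₀, hrk⟩ := Nat.exists_prime_and_dvd h.lw.k_pos.1.ne'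
    intro r hr hz
    have hzW : W r := h.W_prime hr (by tauto)
    have hne : ∀ a b : ℕ, a.Prime → b.Prime → W (a * b) → (a ∣ a * b ∧ b ∣ a * b) := fun a b _ _ _ =>
      ⟨dvd_mul_right _ _, dvd_mul_left _ _⟩
    have key := h.one w r r₀ hwp hr hr₀ (h.lw.ne_kz hwp (Or.inr hwk) hz) (h.lw.ne_kk hr₀ hrk hwk).symm
      (h.lw.ne_kz hr₀ (Or.inl hrk) hz).symm (h.W_prime hwp (by tauto)) hzW (h.W_prime hr₀ (by tauto))
      (fun hW => h.lw.naz hwp (Or.inr hwk) hr hz hW (dvd_mul_right _ _) (dvd_mul_left _ _))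
      (fun hW => h.lw.na hr₀ hrk hwp hwk hW (dvd_mul_left _ _) (dvd_mul_right _ _))
      (fun hW => h.lw.naz hr₀ (Or.inl hrk) hr hz hW (dvd_mul_left _ _) (dvd_mul_right _ _)) hwb
    exact ⟨fun hd => key (hd.mul_right _), fun hd => key (hd.mul_left _)⟩
  · left
    push Not at hw
    intro r hr hk
    exact ⟨fun hd => hw r hr hk (hd.mul_right _), fun hd => hw r hr hk (hd.mul_left _)⟩

/-- state I : `k' ∈ ω(S)` -/
theorem SX.k'S (h : SX p q k A k' B m i W S) (h1 : ∀ r : ℕ, r.Prime → r ∣ k' → ¬ r ∣ m ∧ ¬ r ∣ i) :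
    ∃ x : S, orderOf x = k' := by
  refine h.mem _ h.lw.Wk.2 (Nat.Coprime.mul_right ?_ ?_)
  · exact Nat.coprime_of_dvd fun r hr hk hm => (h1 r hr hk).1 hm
  · exact Nat.coprime_of_dvd fun r hr hk hm => (h1 r hr hk).2 hm

/-- state II : `p (q² + 1) / 2 ∈ ω(S)` -/
theorem SX.pzS (h : SX p q k A k' B m i W S)
    (h1 : ∀ r : ℕ, r.Prime → (r ∣ (q ^ 2 + 1) / 2 ∨ r = p) → ¬ r ∣ m ∧ ¬ r ∣ i) :
    ∃ x : S, orderOf x = p * ((q ^ 2 + 1) / 2) := by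
  have h2 : ∀ r : ℕ, r.Prime → r ∣ p * ((q ^ 2 + 1) / 2) → ¬ r ∣ m ∧ ¬ r ∣ i := by
    intro r hr hd
    rcases hr.dvd_mul.1 hd with hd | hd
    · exact h1 r hr (Or.inr ((Nat.prime_dvd_prime_iff_eq hr h.lw.pp).1 hd))
    · exact h1 r hr (Or.inl hd)
  refine h.mem _ h.lw.Wpz (Nat.Coprime.mul_right ?_ ?_)
  · exact Nat.coprime_of_dvd fun r hr hk hm => (h2 r hr hk).1 hm
  · exact Nat.coprime_of_dvd fun r hr hk hm => (h2 r hr hk).2 hm

/-- the order of a `z`, `p` prime is not adjacent to the primes of `k`, `k'` in `S` either -/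
theorem SX.naS (h : SX p q k A k' B m i W S) {r s : ℕ} (hr : r.Prime) (hk : r ∣ k ∨ r ∣ k') (hs : s.Prime)
    (hz : s ∣ (q ^ 2 + 1) / 2 ∨ s = p) (x : S) (h1 : r ∣ orderOf x) : ¬ s ∣ orderOf x := fun h2 =>
  h.lw.naz hr hk hs hz (h.WS x) h1 h2

end

end Cfsg.Agent.R2.Spec.X4
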