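import Cfsg.Agent.R2.Spec.X4.Asm
import Cfsg.Agent.R2.Spec.X4.H10.L3Main
import Cfsg.Agent.R2.Spec.X4.H18.E6
import Cfsg.Agent.R2.Spec.X4.H18.TF4
import Cfsg.Agent.R2.Spec.X4.H19.E78

/-!
# Box X4 of S3435: the main theorems (helper19)

* `specQR_psp3` : quasirecognition of `PSp₆(q)`, `q` odd;
* `specQR_odd3`, `specQR_plus4` : of `Ω₇(q)`, `PΩ₈⁺(q)`, `q` odd, `q ≠ 3`.
-/

set_option autoImplicit false

namespace Cfsg.Agent.R2.Spec.X4

open Subgroup Cfsg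
open Cfsg.Agent.H426.LieFam (Fam)

universe u v

/-- **All the rows of the box X4.** -/
theorem rows_all (f : Fam) : Rest.{u} f :=
  rows (fun h hg _ _ hv hvp hI => H10.row_l3 h hg hv hvp hI) (fun h hg _ _ hv hvp hI => H10.row_u3 h hg hv hvp hI)
    (fun h hg _ _ hv hvp hI => H18.row_e6 h hg hI hv hvp) (fun h hg _ _ hv hvp hI => H18.row_te6 h hg hI hv hvp)
    (fun h hg _ _ _ _ hI => H19.row_e7 h hg hI) (fun h hg _ _ _ _ hI => H19.row_e8 h hg hI)
    (fun h hg _ _ hv hvp hI => H18.row_tf4 h hg hI hv hvp) f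

/-- **X4a**: `PSp₆(q)`, `q` odd -/
theorem specQR_psp3 {F : Type} [Field F] [Fintype F] (ho : Odd (Fintype.card F)) {L : Type v} [Group L]
    (e : L ≃* PSp 3 F) : SpecQR.{u, v} L := x4a rows_all ho e

/-- **X4b**: `Ω₇(q)`, `q` odd, `q ≠ 3` -/
theorem specQR_odd3 {F : Type} [Field F] [Fintype F] (ho : Odd (Fintype.card F)) (h3 : Fintype.card F ≠ 3) {L : Type v}
    [Group L] (e : L ≃* POmega F (quadFormOdd 3 F)) : SpecQR.{u, v} L := x4b rows_all ho h3 e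

/-- **X4c**: `PΩ₈⁺(q)`, `q` odd, `q ≠ 3` -/
theorem specQR_plus4 {F : Type} [Field F] [Fintype F] (ho : Odd (Fintype.card F)) (h3 : Fintype.card F ≠ 3) {L : Type v}
    [Group L] (e : L ≃* POmega F (quadFormPlus 4 F)) : SpecQR.{u, v} L := x4c rows_all ho h3 e

end Cfsg.Agent.R2.Spec.X4
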