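import Cfsg.Agent.H148.Oct.SepG2
import Cfsg.Agent.H161.G2Elems

/-!
# Box X4 of S3435: a fixed point of an element of order `4p` of `G₂(q)` (helper19)

`AutO F` acting faithfully on an elementary abelian `r`-group `V`, `r` prime to `q`: some element of order `4p` has a
nontrivial fixed point. The element is `z * h`, `z` in the long root group `Z = {y 0 0 c}`, `h` of order `4` centralising
`Z` and normalising the unitriangular group `Y = {y a b c}` of `SL₃(q)`, `h` acting on `Y / Z` without fixed points.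
-/

set_option autoImplicit false
set_option linter.unusedSimpArgs false

namespace Cfsg.Agent.R2.Spec.X4.Oct

open Cfsg.Lie Cfsg.Agent.H161.Oct Finset

universe u

section Mat

variable {F : Type*} [Field F]

/-- the unitriangular matrices -/
def um (a b c : F) : Matrix.SpecialLinearGroup (Fin 3) F :=
  ⟨!![1, a, c; 0, 1, b; 0, 0, 1], by rw [Matrix.det_fin_three]; simp⟩

theorem um_mul (a b c a' b' c' : F) : um a b c * um a' b' c' = um (a + a') (b + b') (c + c' + a * b') := by
  apply Subtype.ext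
  rw [Matrix.SpecialLinearGroup.coe_mul]
  ext i j
  fin_cases i <;> fin_cases j <;> simp [um, Matrix.mul_apply, Fin.sum_univ_three] <;> ring

/-- moving the lines -/
def gm (t : F) : Matrix.SpecialLinearGroup (Fin 3) F :=
  ⟨!![t, -1, 0; 1, 0, 0; 0, 0, 1], by rw [Matrix.det_fin_three]; simp⟩

theorem gm_mul (t b c : F) : gm t * um 0 b c = um 0 c (t * c - b) * gm t := by
  apply Subtype.ext
  rw [Matrix.SpecialLinearGroup.coe_mul, Matrix.SpecialLinearGroup.coe_mul]
  ext i j
  fin_cases i <;> fin_cases j <;> simp [um, gm, Matrix.mul_apply, Fin.sum_univ_three] <;> ring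

/-- the hom from `SL₃` -/
noncomputable def sA (F : Type*) [Field F] : Matrix.SpecialLinearGroup (Fin 3) F →* ↥(AutO F) :=
  (slM F).codRestrict _ slM_mem

theorem sA_coe (P : Matrix.SpecialLinearGroup (Fin 3) F) (x : V F) : (sA F P : V F ≃ₗ[F] V F) x = slF P.1 x := rfl

/-- the elements -/
noncomputable def y (a b c : F) : ↥(AutO F) := sA F (um a b c)

theorem y_mul (a b c a' b' c' : F) : y a b c * y a' b' c' = y (a + a') (b + b') (c + c' + a * b') := by
  rw [y, y, ← map_mul, um_mul]; rfl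

theorem y_zero : y (0 : F) 0 0 = 1 := by
  rw [y]
  convert map_one (sA F)
  apply Subtype.ext
  rw [Matrix.SpecialLinearGroup.coe_one]
  ext i j
  fin_cases i <;> fin_cases j <;> simp [um]

theorem sA_inj : Function.Injective (sA F) := fun _ _ h => slM_inj (congrArg Subtype.val h)

theorem y_ne {c : F} (hc : c ≠ 0) : y 0 0 c ≠ 1 := by
  intro h
  rw [← y_zero] at h
  have h1 := congrArg (fun P : Matrix.SpecialLinearGroup (Fin 3) F => P.1 0 2) (sA_inj h)
  simp [um] at h1
  exact hc h1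

theorem gm_y (t b c : F) : sA F (gm t) * y 0 b c = y 0 c (t * c - b) * sA F (gm t) := by
  rw [y, y, ← map_mul, ← map_mul, gm_mul]

/-- the matrix part of the element of order `4` -/
def s0 (F : Type*) [Field F] : Matrix.SpecialLinearGroup (Fin 3) F :=
  ⟨!![0, 0, 1; 0, 1, 0; -1, 0, 0], by rw [Matrix.det_fin_three]; simp⟩

/-- the element of order `4` -/
noncomputable def hh (F : Type*) [Field F] : ↥(AutO F) := ⟨swp F, swp_mem⟩ * sA F (s0 F)

theorem hh_apply (x : V F) : (hh F : V F ≃ₗ[F] V F) x = ![x 7, -x 6, -x 5, x 4, -x 3, -x 2, x 1, x 0] := by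
  show swpF (slF (s0 F).1 x) = _
  apply ext8 <;> simp [swpF0, swpF1, swpF2, swpF3, swpF4, swpF5, swpF6, swpF7, slF0, slF1, slF2, slF3, slF4, slF5, slF6,
    slF7, s0]

theorem y_apply (a b c : F) (x : V F) : (y a b c : V F ≃ₗ[F] V F) x =
    ![x 0, x 1 + a * x 2 + c * x 3, x 2 + b * x 3, x 3, x 4, x 5 - a * x 4, x 6 - b * x 5 + (a * b - c) * x 4, x 7] := by
  show slF (um a b c).1 x = _
  apply ext8 <;> simp [slF0, slF1, slF2, slF3, slF4, slF5, slF6, slF7, um] <;> ring

theorem hh_y (a b c : F) : hh F * y a b c = y (-b) a (c - a * b) * hh F := by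
  apply Subtype.ext
  apply LinearEquiv.ext
  intro x
  show (hh F : V F ≃ₗ[F] V F) ((y a b c : V F ≃ₗ[F] V F) x) = (y (-b) a (c - a * b) : V F ≃ₗ[F] V F)
    ((hh F : V F ≃ₗ[F] V F) x)
  rw [hh_apply, y_apply, y_apply, hh_apply]
  apply ext8 <;> simp <;> ring

theorem hh_sq_apply (x : V F) : ((hh F ^ 2 : ↥(AutO F)) : V F ≃ₗ[F] V F) x =
    ![x 0, -x 1, x 2, -x 3, -x 4, x 5, -x 6, x 7] := by
  rw [pow_two]
  show (hh F : V F ≃ₗ[F] V F) ((hh F : V F ≃ₗ[F] V F) x) = _
  rw [hh_apply, hh_apply]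
  apply ext8 <;> simp

theorem hh_four : hh F ^ 4 = 1 := by
  rw [show (4 : ℕ) = 2 * 2 from rfl, pow_mul, pow_two (hh F ^ 2)]
  apply Subtype.ext
  apply LinearEquiv.ext
  intro x
  show ((hh F ^ 2 : ↥(AutO F)) : V F ≃ₗ[F] V F) (((hh F ^ 2 : ↥(AutO F)) : V F ≃ₗ[F] V F) x) = x
  rw [hh_sq_apply, hh_sq_apply]
  apply ext8 <;> simp

theorem hh_sq_ne (h2 : (2 : F) ≠ 0) : hh F ^ 2 ≠ 1 := by
  intro h
  have h1 := congrArg (fun f : ↥(AutO F) => (f : V F ≃ₗ[F] V F) (Pi.single 1 1) 1) h
  simp only [hh_sq_apply] at h1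
  have h3 : (-1 : F) = 1 := by simpa using h1
  apply h2
  linear_combination -h3

theorem orderOf_hh (h2 : (2 : F) ≠ 0) : orderOf (hh F) = 4 := by
  have := Fact.mk Nat.prime_two
  have h1 : orderOf (hh F) = 2 ^ (1 + 1) := orderOf_eq_prime_pow (by rw [pow_one]; exact hh_sq_ne h2) hh_four
  rw [h1]; norm_num

end Mat

section Act

variable {F : Type*} [Field F] [Fintype F] {W : Type*} [CommGroup W] {r : ℕ} (hr : r.Prime)
  (hrq : ¬ r ∣ Fintype.card F) (hW : ∀ v : W, v ^ r = 1) (φ : ↥(AutO F) →* MulAut W)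

include hr hrq hW in
omit [Field F] in
theorem pow_mem (X : Subgroup W) {v : W} (h : v ^ Fintype.card F ∈ X) : v ∈ X := by
  obtain ⟨m, hm⟩ := Nat.exists_mul_mod_eq_one_of_coprime (n := Fintype.card F) (k := r)
    ((Nat.coprime_comm.1 ((Nat.Prime.coprime_iff_not_dvd hr).2 hrq))) hr.one_lt
  have h1 : (v ^ Fintype.card F) ^ m = v := by
    rw [← pow_mul]
    have h2 := Nat.div_add_mod (Fintype.card F * m) r
    rw [hm.2] at h2
    rw [← h2, pow_add, pow_mul, hW, one_pow, one_mul, pow_one]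
  rw [← h1]
  exact X.pow_mem h m

omit [Fintype F] in
theorem y_act (a b c a' b' c' : F) (v : W) : φ (y a b c) (φ (y a' b' c') v) =
    φ (y (a + a') (b + b') (c + c' + a * b')) v := by
  rw [← MulAut.mul_apply, ← map_mul, y_mul]

include hr hrq hW in
/-- the lines of a `2`-space -/
theorem lines (h : ∀ v, (∀ c, φ (y 0 0 c) v = v) → ∀ b c, φ (y 0 b c) v = v) (v : W) (b c : F) :
    φ (y 0 b c) v = v := by
  classical
  set f : F → F → W := fun b c => φ (y 0 b c) v with hf
  have hact : ∀ b c b' c', φ (y 0 b c) (f b' c') = f (b + b') (c + c') := by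
    intro b c b' c'
    rw [hf]
    simp only
    rw [y_act]
    simp
  -- the fixed points of the whole group
  let X : Subgroup W :=
    { carrier := {w | ∀ b c, φ (y 0 b c) w = w}
      mul_mem' := fun {u w} hu hw b c => by rw [map_mul, hu, hw]
      one_mem' := fun b c => map_one _
      inv_mem' := fun {u} hu b c => by rw [map_inv, hu] }
  have hX : ∀ w, w ∈ X ↔ ∀ b c, φ (y 0 b c) w = w := fun _ => Iff.rfl
  have hline : ∀ t : F, ∀ w : W, (∀ b, φ (y 0 b (t * b)) w = w) → w ∈ X := by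
    intro t w hw
    rw [hX]
    set w' := φ (sA F (gm t))⁻¹ w with hw'
    have hww : w = φ (sA F (gm t)) w' := by
      rw [hw', ← MulAut.mul_apply, ← map_mul, mul_inv_cancel, map_one, MulAut.one_apply]
    have h1 : ∀ c, φ (y 0 0 c) w' = w' := by
      intro c
      have h2 : y 0 0 c * (sA F (gm t))⁻¹ = (sA F (gm t))⁻¹ * y 0 c (t * c) := by
        have h3 := gm_y t 0 c
        rw [sub_zero] at h3
        rw [eq_inv_mul_iff_mul_eq, ← mul_assoc, h3, mul_assoc, mul_inv_cancel, mul_one]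
      rw [hw', ← MulAut.mul_apply, ← map_mul, h2, map_mul, MulAut.mul_apply, hw c]
    intro b' c'
    have h2 := h w' h1 (t * b' - c') b'
    have h3 := gm_y t (t * b' - c') b'
    rw [sub_sub_cancel] at h3
    rw [hww, ← MulAut.mul_apply, ← map_mul, ← h3, map_mul, MulAut.mul_apply, h2]
  have hinf : (∏ c, f 0 c) ∈ X := by
    rw [hX]
    apply h
    intro c'
    rw [map_prod]
    simp only [hact, add_zero]
    exact Fintype.prod_equiv (Equiv.addLeft c') _ _ (fun _ => rfl)
  have hall : (∏ b, ∏ c, f b c) ∈ X := by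
    rw [hX]
    intro b' c'
    rw [map_prod]
    simp only [map_prod, hact]
    refine Fintype.prod_equiv (Equiv.addLeft b') _ _ (fun b => ?_)
    exact Fintype.prod_equiv (Equiv.addLeft c') _ _ (fun _ => rfl)
  have ht : ∀ t, (∏ b, f b (t * b)) ∈ X := by
    intro t
    apply hline t
    intro b'
    rw [map_prod]
    simp only [hact]
    refine Fintype.prod_equiv (Equiv.addLeft b') _ _ (fun b => ?_)
    simp [mul_add]
  have hv0 : f 0 0 = v := by
    rw [hf]; simp only; rw [y_zero, map_one, MulAut.one_apply]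
  have key : (∏ t, ∏ b, f b (t * b)) * ∏ c, f 0 c = v ^ Fintype.card F * ∏ b, ∏ c, f b c := by
    rw [Finset.prod_comm, Fintype.prod_eq_mul_prod_compl (0 : F) (fun b => ∏ t, f b (t * b)),
      Fintype.prod_eq_mul_prod_compl (0 : F) (fun b => ∏ c, f b c)]
    have h1 : ∏ t : F, f 0 (t * 0) = v ^ Fintype.card F := by
      simp only [mul_zero, hv0, Finset.prod_const, Finset.card_univ]
    have h2 : ∏ b ∈ ({0} : Finset F)ᶜ, ∏ t, f b (t * b) = ∏ b ∈ ({0} : Finset F)ᶜ, ∏ c, f b c := by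
      apply Finset.prod_congr rfl
      intro b hb
      have hb0 : b ≠ 0 := by simpa using hb
      exact Fintype.prod_equiv (Equiv.mulRight₀ b hb0) _ _ (fun _ => rfl)
    rw [h1, h2]
    simp only [mul_assoc, mul_comm, mul_left_comm]
  have h1 : v ^ Fintype.card F ∈ X := by
    have h2 : v ^ Fintype.card F = (∏ t, ∏ b, f b (t * b)) * (∏ c, f 0 c) * (∏ b, ∏ c, f b c)⁻¹ := by
      rw [key, mul_inv_cancel_right]
    rw [h2]
    exact X.mul_mem (X.mul_mem (X.prod_mem (fun t _ => ht t)) hinf) (X.inv_mem hall)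
  exact pow_mem hr hrq hW X h1 b c

include hr hrq hW in
/-- the Frobenius group -/
theorem frob (h2 : (2 : F) ≠ 0)
    (hh1 : ∀ v, (∀ c, φ (y 0 0 c) v = v) → φ (hh F) v = v → v = 1) (v : W) (hv : ∀ c, φ (y 0 0 c) v = v)
    (a b c : F) : φ (y a b c) v = v := by
  classical
  -- the fixed points
  have hy0 : ∀ (a b c : F) (w : W), (∀ c, φ (y 0 0 c) w = w) → φ (y a b c) w = φ (y a b 0) w := by
    intro a b c w hw
    conv_rhs => rw [← hw c]
    rw [y_act]
    simp
  have hyV : ∀ (a b c : F) (w : W), (∀ c, φ (y 0 0 c) w = w) → ∀ c', φ (y 0 0 c') (φ (y a b c) w) = φ (y a b c) w := by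
    intro a b c w hw c'
    rw [y_act, hy0 _ _ _ w hw, hy0 a b c w hw]
    simp
  have hhV : ∀ w : W, (∀ c, φ (y 0 0 c) w = w) → ∀ c', φ (y 0 0 c') (φ (hh F) w) = φ (hh F) w := by
    intro w hw c'
    have h1 := hh_y (0 : F) 0 c'
    simp only [neg_zero, mul_zero, sub_zero] at h1
    rw [← MulAut.mul_apply, ← map_mul, ← h1, map_mul, MulAut.mul_apply, hw]
  have hhy : ∀ (a b c : F) (w : W), φ (hh F) (φ (y a b c) w) = φ (y (-b) a (c - a * b)) (φ (hh F) w) := by
    intro a b c w
    rw [← MulAut.mul_apply, ← map_mul, hh_y, map_mul, MulAut.mul_apply]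
  have hh4 : ∀ w : W, φ (hh F) (φ (hh F) (φ (hh F) (φ (hh F) w))) = w := by
    intro w
    have h1 : φ (hh F) (φ (hh F) (φ (hh F) (φ (hh F) w))) = φ (hh F ^ 4) w := by
      simp only [pow_succ, pow_zero, one_mul, map_mul, MulAut.mul_apply]
    rw [h1, hh_four, map_one, MulAut.one_apply]
  -- the norm of `h` vanishes
  have hnorm : ∀ w : W, (∀ c, φ (y 0 0 c) w = w) →
      w * φ (hh F) w * φ (hh F) (φ (hh F) w) * φ (hh F) (φ (hh F) (φ (hh F) w)) = 1 := by
    intro w hw
    have hw1 := hhV w hw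
    have hw2 := hhV _ hw1
    have hw3 := hhV _ hw2
    apply hh1
    · intro c
      rw [map_mul, map_mul, map_mul, hw, hw1, hw2, hw3]
    · rw [map_mul, map_mul, map_mul, hh4]
      simp only [mul_comm, mul_left_comm]
  let X : Subgroup W :=
    { carrier := {w | ∀ a b c, φ (y a b c) w = w}
      mul_mem' := fun {u w} hu hw a b c => by rw [map_mul, hu, hw]
      one_mem' := fun a b c => map_one _
      inv_mem' := fun {u} hu a b c => by rw [map_inv, hu] }
  have hX : ∀ w, w ∈ X ↔ ∀ a b c, φ (y a b c) w = w := fun _ => Iff.rfl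
  -- the norms of the unitriangular group
  have hN : ∀ w : W, (∀ c, φ (y 0 0 c) w = w) → (∏ x : F × F, φ (y x.1 x.2 0) w) ∈ X := by
    intro w hw
    rw [hX]
    intro a b c
    rw [map_prod]
    refine Fintype.prod_equiv (Equiv.prodCongr (Equiv.addLeft a) (Equiv.addLeft b)) _ _ (fun x => ?_)
    rw [y_act, hy0 _ _ _ w hw]
    rfl
  have hv1 := hhV v hv
  have hv2 := hhV _ hv1
  have hv3 := hhV _ hv2
  -- the inner products
  have hin : ∀ x : F × F, φ (y (x.1 + x.2) (x.2 - x.1) 0) (φ (hh F) v) * φ (y (x.1 + x.1) (x.2 + x.2) 0)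
      (φ (hh F) (φ (hh F) v)) * φ (y (x.1 - x.2) (x.2 + x.1) 0) (φ (hh F) (φ (hh F) (φ (hh F) v))) = v⁻¹ := by
    rintro ⟨a, b⟩
    simp only
    have hu := hyV (-a) (-b) (a * b) v hv
    have h1 := congrArg (φ (y a b 0)) (hnorm _ hu)
    rw [map_mul, map_mul, map_mul, map_one] at h1
    have e0 : φ (y a b 0) (φ (y (-a) (-b) (a * b)) v) = v := by
      rw [y_act]
      have : a + -a = 0 := by ring
      rw [this, show b + -b = 0 by ring, show (0 : F) + a * b + a * -b = 0 by ring, y_zero, map_one, MulAut.one_apply]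
    have e1 : φ (y a b 0) (φ (hh F) (φ (y (-a) (-b) (a * b)) v)) = φ (y (a + b) (b - a) 0) (φ (hh F) v) := by
      rw [hhy, y_act, hy0 _ _ _ _ hv1]
      congr 2
      · simp [sub_eq_add_neg]
    have e2 : φ (y a b 0) (φ (hh F) (φ (hh F) (φ (y (-a) (-b) (a * b)) v))) =
        φ (y (a + a) (b + b) 0) (φ (hh F) (φ (hh F) v)) := by
      rw [hhy, hhy, y_act, hy0 _ _ _ _ hv2]
      simp
    have e3 : φ (y a b 0) (φ (hh F) (φ (hh F) (φ (hh F) (φ (y (-a) (-b) (a * b)) v)))) =
        φ (y (a - b) (b + a) 0) (φ (hh F) (φ (hh F) (φ (hh F) v))) := by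
      rw [hhy, hhy, hhy, y_act, hy0 _ _ _ _ hv3]
      simp [sub_eq_add_neg]
    rw [e0, e1, e2, e3] at h1
    rw [eq_inv_iff_mul_eq_one, ← h1]
    simp only [mul_assoc, mul_comm, mul_left_comm]
  have b1 : Function.Bijective (fun x : F × F => (x.1 + x.2, x.2 - x.1)) := by
    rw [← Finite.injective_iff_bijective]
    rintro ⟨a, b⟩ ⟨a', b'⟩ h
    simp only [Prod.mk.injEq] at h
    obtain ⟨h3, h4⟩ := h
    have h5 : 2 * b = 2 * b' := by linear_combination h3 + h4
    have h6 : 2 * a = 2 * a' := by linear_combination h3 - h4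
    rw [mul_left_cancel₀ h2 h5, mul_left_cancel₀ h2 h6]
  have b2 : Function.Bijective (fun x : F × F => (x.1 + x.1, x.2 + x.2)) := by
    rw [← Finite.injective_iff_bijective]
    rintro ⟨a, b⟩ ⟨a', b'⟩ h
    simp only [Prod.mk.injEq] at h
    obtain ⟨h3, h4⟩ := h
    have h5 : 2 * b = 2 * b' := by linear_combination h4
    have h6 : 2 * a = 2 * a' := by linear_combination h3
    rw [mul_left_cancel₀ h2 h5, mul_left_cancel₀ h2 h6]
  have b3 : Function.Bijective (fun x : F × F => (x.1 - x.2, x.2 + x.1)) := by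
    rw [← Finite.injective_iff_bijective]
    rintro ⟨a, b⟩ ⟨a', b'⟩ h
    simp only [Prod.mk.injEq] at h
    obtain ⟨h3, h4⟩ := h
    have h5 : 2 * b = 2 * b' := by linear_combination h4 - h3
    have h6 : 2 * a = 2 * a' := by linear_combination h3 + h4
    rw [mul_left_cancel₀ h2 h5, mul_left_cancel₀ h2 h6]
  have hprod : (∏ x : F × F, φ (y x.1 x.2 0) (φ (hh F) v)) * (∏ x : F × F, φ (y x.1 x.2 0) (φ (hh F) (φ (hh F) v))) *
      (∏ x : F × F, φ (y x.1 x.2 0) (φ (hh F) (φ (hh F) (φ (hh F) v)))) = (v⁻¹) ^ (Fintype.card F * Fintype.card F) := by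
    rw [← Fintype.card_prod, ← Finset.card_univ, ← Finset.prod_const,
      ← Function.Bijective.prod_comp b1 (fun x : F × F => φ (y x.1 x.2 0) (φ (hh F) v)),
      ← Function.Bijective.prod_comp b2 (fun x : F × F => φ (y x.1 x.2 0) (φ (hh F) (φ (hh F) v))),
      ← Function.Bijective.prod_comp b3 (fun x : F × F => φ (y x.1 x.2 0) (φ (hh F) (φ (hh F) (φ (hh F) v)))),
      ← Finset.prod_mul_distrib, ← Finset.prod_mul_distrib]
    exact Finset.prod_congr rfl (fun x _ => hin x)
  have h1 : (v⁻¹) ^ (Fintype.card F * Fintype.card F) ∈ X := by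
    rw [← hprod]
    exact X.mul_mem (X.mul_mem (hN _ hv1) (hN _ hv2)) (hN _ hv3)
  rw [pow_mul] at h1
  have h3 := pow_mem hr hrq hW X (pow_mem hr hrq hW X h1)
  rw [X.inv_mem_iff] at h3
  exact h3 a b c

include hr hrq hW in
/-- **The fixed point of an element of order `4p`.** -/
theorem exists_fixed {p : ℕ} [hp : Fact p.Prime] [CharP F p] (h2 : (2 : F) ≠ 0)
    (hφ : Function.Injective φ) : ∃ g : ↥(AutO F), orderOf g = 4 * p ∧ ∃ v : W, v ≠ 1 ∧ φ g v = v := by
  classical
  by_contra hcon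
  push Not at hcon
  -- the long root group
  have hpc : ∀ (k : ℕ) (c : F), y 0 0 c ^ k = y 0 0 (k * c) := by
    intro k c
    induction k with
    | zero => simp [y_zero]
    | succ k ih =>
      rw [pow_succ, ih, y_mul]
      push_cast
      congr 1 <;> ring
  have hzo : orderOf (y (0 : F) 0 1) = p := by
    apply orderOf_eq_prime
    · rw [hpc, CharP.cast_eq_zero, zero_mul, y_zero]
    · exact y_ne one_ne_zero
  have hcom : Commute (hh F) (y 0 0 1) := by
    show hh F * y 0 0 1 = y 0 0 1 * hh F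
    have h1 := hh_y (0 : F) 0 1
    simpa using h1
  have hp2 : p ≠ 2 := by
    rintro rfl
    exact h2 (by exact_mod_cast CharP.cast_eq_zero F 2)
  have hord : orderOf (hh F * y 0 0 1) = 4 * p := by
    rw [hcom.orderOf_mul_eq_mul_orderOf_of_coprime, orderOf_hh h2, hzo]
    rw [orderOf_hh h2, hzo]
    have h1 : Nat.Coprime 2 p := (Nat.coprime_primes Nat.prime_two hp.out).2 (Ne.symm hp2)
    exact Nat.Coprime.pow_left 2 h1
  have hfree : ∀ v, (∀ c, φ (y 0 0 c) v = v) → φ (hh F) v = v → v = 1 := by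
    intro v hv hv2
    by_contra hv1
    apply hcon _ hord v hv1
    rw [map_mul, MulAut.mul_apply, hv, hv2]
  have h3 := frob hr hrq hW φ h2 hfree
  have h4 := lines hr hrq hW φ (fun v hv b c => h3 v hv 0 b c)
  have h5 : φ (y 0 0 1) = 1 := by
    apply MulEquiv.ext
    intro v
    exact h4 v 0 1
  exact y_ne (F := F) one_ne_zero (hφ (h5.trans (map_one φ).symm))

end Act

end Cfsg.Agent.R2.Spec.X4.Oct
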