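import Cfsg.Agent.R2.Spec.X4.DispB
import Cfsg.Agent.R2.Spec.X4.Q3.Main
import Cfsg.Agent.R2.Spec.X4.H4.Main
import Cfsg.Agent.R2.Spec.X4.H10.FinSO
import Cfsg.Agent.R2.Spec.X4.H10.L2Main
import Cfsg.Agent.R2.Spec.X4.H18.SzRee
import Cfsg.Agent.R2.Spec.X4.H18.G2
import Cfsg.Agent.R2.Spec.X4.H18.F4
import Cfsg.Agent.R2.Spec.X4.H18.TD4
import Cfsg.Agent.S3467
import Cfsg.Agent.S3470
import Cfsg.Agent.S3471

/-!
# Box X4 of S3435: the assembly (helper19)

* `Rest` : the rows `L₃(u)`, `U₃(u)`, `E₆(u)`, `²E₆(u)`, `E₇(u)`, `E₈(u)`, `²F₄(u)`;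
* `x4a`, `x4b`, `x4c` : quasirecognition of `PSp₆(q)`, `Ω₇(q)`, `PΩ₈⁺(q)`, `q` odd (`q ≠ 3` in the last two cases), from
  `Rest`.
-/

set_option autoImplicit false
set_option linter.unusedSectionVars false

namespace Cfsg.Agent.R2.Spec.X4

open Subgroup Cfsg
open Cfsg.Agent.H420.QR (Red)
open Cfsg.Agent.H426.LieFam (Fam)

universe u v

/-- the remaining rows -/
def Rest (f : Fam) : Prop := ∀ {p q k A k' B m i : ℕ} {W : ℕ → Prop} {S : Type u} [Group S],
  SX p q k A k' B m i W S → Good W m i → ∀ v e : ℕ, v.Prime → v ≠ p → Fam.Is v e S f → False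

/-- all the rows -/
theorem rows (h3 : Rest.{u} (.psl 3)) (h3' : Rest.{u} (.psu 3)) (h6 : Rest.{u} .e6) (h6' : Rest.{u} .te6)
    (h7 : Rest.{u} .e7) (h8 : Rest.{u} .e8) (h4 : Rest.{u} .tf4) (f : Fam) : Rest.{u} f := by
  intro p q k A k' B m i W S _ h hg v e hv hvp hI
  cases f with
  | psl n =>
    have h2 := hI.1
    rcases Nat.lt_or_ge n 4 with h5 | h5
    · interval_cases n
      · exact H10.row_l2 h hv hvp hI
      · exact h3 h hg v e hv hvp hI
    · exact H4.row_psl h hg hv hvp hI h5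
  | psu n =>
    have h2 := hI.1
    rcases Nat.lt_or_ge n 4 with h5 | h5
    · interval_cases n
      exact h3' h hg v e hv hvp hI
    · exact H4.row_psu h hg hv hvp hI h5
  | psp n => exact H10.row_psp h hg hv hvp hI
  | oodd n => exact H10.row_oodd h hg hv hvp hI
  | oplus n => exact H10.row_oplus h hg hv hvp hI
  | ominus n => exact H10.row_ominus h hg hv hvp hI
  | g2 => exact H18.row_g2 h hg hI hv hvp
  | f4 => exact H18.row_f4 h hg hI hv hvp
  | e6 => exact h6 h hg v e hv hvp hI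
  | e7 => exact h7 h hg v e hv hvp hI
  | e8 => exact h8 h hg v e hv hvp hI
  | te6 => exact h6' h hg v e hv hvp hI
  | td4 => exact H18.row_td4 h hg hI hv hvp
  | sz => exact H18.row_sz h hg hI
  | tf4 => exact h4 h hg v e hv hvp hI
  | ree => exact H18.row_ree h hg hI hvp

/-- isomorphic groups -/
theorem specQR_congr {L : Type v} [Group L] {M : Type*} [Group M] (e : L ≃* M) (h : SpecQR.{u, _} M) :
    SpecQR.{u, v} L := by
  intro G _ _ hω
  have h1 : Set.range (orderOf : L → ℕ) = Set.range (orderOf : M → ℕ) := by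
    ext n
    constructor
    · rintro ⟨x, rfl⟩
      exact ⟨e x, MulEquiv.orderOf_eq e x⟩
    · rintro ⟨x, rfl⟩
      exact ⟨e.symm x, MulEquiv.orderOf_eq e.symm x⟩
  obtain ⟨K, H, hK, hH, h2, h3, h4, ⟨ε⟩⟩ := h G (hω.trans h1)
  exact ⟨K, H, hK, hH, h2, h3, h4, ⟨ε.trans e.symm⟩⟩

/-- recognition gives quasirecognition -/
theorem quasi_of_iso {G : Type u} [Group G] {L : Type v} [Group L] (h : Nonempty (G ≃* L)) :
    ∃ (K H : Subgroup G) (_ : K.Normal) (_ : H.Normal), K ≤ H ∧ Group.IsSolvable ↥K ∧ Group.IsSolvable (G ⧸ H) ∧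
      Nonempty (↥H ⧸ K.subgroupOf H ≃* L) := by
  obtain ⟨e⟩ := h
  have : Subsingleton (G ⧸ (⊤ : Subgroup G)) := QuotientGroup.subsingleton_quotient_top
  have h1 : (⊥ : Subgroup G).subgroupOf (⊤ : Subgroup G) = ⊥ := by
    ext x
    simp [mem_subgroupOf, Subgroup.mem_bot]
  refine ⟨⊥, ⊤, inferInstance, inferInstance, bot_le, inferInstance, inferInstance, ?_⟩
  exact ⟨(QuotientGroup.quotientMulEquivOfEq h1).trans (QuotientGroup.quotientBot.trans (Subgroup.topEquiv.trans e))⟩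

section

variable (hr : ∀ f : Fam, Rest.{u} f)

include hr

/-- `q ≥ 7` -/
theorem large {p : ℕ} {t : Ty} {F : Type} [Field F] [Fintype F] {L : Type v} [Group L] (H : LH p t F L) :
    SpecQR.{u, v} L := by
  intro G _ _ hω
  obtain ⟨K, hK, S, hS, R, e⟩ := exists_iso_of H hω (fun h hg f v e hv hvp hI => hr f h hg v e hv hvp hI)
    (fun h v e hv _ hvp hI => H10.row_l2 h hv hvp hI)
  exact R.quasi e

theorem exists_p {F : Type} [Field F] [Fintype F] (ho : Odd (Fintype.card F)) :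
    ∃ p : ℕ, p.Prime ∧ p ≠ 2 ∧ CharP F p ∧ ∃ e : ℕ, Fintype.card F = p ^ e := by
  obtain ⟨p, hp⟩ := CharP.exists F
  have hpp : p.Prime := CharP.char_is_prime F p
  obtain ⟨f, -, hF⟩ := FiniteField.card F p
  refine ⟨p, hpp, ?_, hp, f, hF⟩
  rintro rfl
  rw [hF] at ho
  exact Nat.not_odd_iff_even.2 (Nat.even_pow.2 ⟨even_two, f.ne_zero⟩) ho

/-- **X4a** -/
theorem x4a {F : Type} [Field F] [Fintype F] (ho : Odd (Fintype.card F)) {L : Type v} [Group L] (e : L ≃* PSp 3 F) :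
    SpecQR.{u, v} L := by
  obtain ⟨p, hp, hp2, hch, hcard⟩ := exists_p hr ho
  have h1 : 1 < Fintype.card F := Fintype.one_lt_card
  have h2 := Nat.odd_iff.1 ho
  by_cases h7 : 7 ≤ Fintype.card F
  · exact large hr (t := .C) ⟨hp, hp2, hcard, h7, ⟨e⟩⟩
  · by_cases h3 : Fintype.card F = 3
    · have := Cfsg.Agent.S0270.result (F := F) 3 (by norm_num) (by norm_num)
      have hs : IsSimpleGroup L := e.isSimpleGroup_congr.2 this
      have hf : Finite L := Finite.of_equiv _ e.symm.toEquiv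
      exact Q3.specQR h3 e
    · refine specQR_congr e fun G _ _ hω => quasi_of_iso ?_
      exact Cfsg.Agent.S3467.result (Or.inr ⟨1, by omega⟩) hω

/-- **X4b** -/
theorem x4b {F : Type} [Field F] [Fintype F] (ho : Odd (Fintype.card F)) (h3 : Fintype.card F ≠ 3) {L : Type v} [Group L]
    (e : L ≃* POmega F (quadFormOdd 3 F)) : SpecQR.{u, v} L := by
  obtain ⟨p, hp, hp2, hch, hcard⟩ := exists_p hr ho
  have h1 : 1 < Fintype.card F := Fintype.one_lt_card
  have h2 := Nat.odd_iff.1 ho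
  by_cases h7 : 7 ≤ Fintype.card F
  · exact large hr (t := .B) ⟨hp, hp2, hcard, h7, ⟨e⟩⟩
  · have := Fact.mk Nat.prime_five
    have h5 : CharP F 5 := charP_of_card_eq_prime (by omega)
    exact specQR_congr e fun G _ _ hω => quasi_of_iso (Cfsg.Agent.S3470.result hω)

/-- **X4c** -/
theorem x4c {F : Type} [Field F] [Fintype F] (ho : Odd (Fintype.card F)) (h3 : Fintype.card F ≠ 3) {L : Type v} [Group L]
    (e : L ≃* POmega F (quadFormPlus 4 F)) : SpecQR.{u, v} L := by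
  obtain ⟨p, hp, hp2, hch, hcard⟩ := exists_p hr ho
  have h1 : 1 < Fintype.card F := Fintype.one_lt_card
  have h2 := Nat.odd_iff.1 ho
  by_cases h7 : 7 ≤ Fintype.card F
  · exact large hr (t := .D) ⟨hp, hp2, hcard, h7, ⟨e⟩⟩
  · have := Fact.mk Nat.prime_five
    have h5 : CharP F 5 := charP_of_card_eq_prime (by omega)
    exact specQR_congr e fun G _ _ hω => quasi_of_iso (Cfsg.Agent.S3471.result 5 (Or.inr rfl) (by omega) hω)

end

end Cfsg.Agent.R2.Spec.X4
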