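import Cfsg.Agent.R2.Spec.X4.LSp
import Cfsg.Agent.H376.Odd8Sp
import Cfsg.Agent.H377.SpElt

/-!
# Box X4 of S3435: `LW` for `PSp₆(q)`, `q ≥ 7` odd (helper19)
-/

set_option autoImplicit false
set_option linter.unusedSectionVars false

namespace Cfsg.Agent.R2.Spec.X4

open Cfsg.Agent.H376.SpEmb

section

variable {F : Type*} [Field F] [Fintype F]

/-- an element `(A, B)`, `B` of odd order, keeps its order in the projective group -/
theorem exists_pair (h1 : (1 : F) ≠ -1) {a b n s t : ℕ} (hb : 1 ≤ b) (h : a + b = n)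
    (hA : ∃ A : Matrix.symplecticGroup (Fin a) F, orderOf A = s)
    (hB : ∃ B : Matrix.symplecticGroup (Fin b) F, orderOf B = t) (ht : Odd t) :
    ∃ g : Cfsg.PSp n F, orderOf g = Nat.lcm s t := by
  obtain ⟨A, hA⟩ := hA
  obtain ⟨B, hB⟩ := hB
  obtain ⟨φ, hφ, hφ1⟩ := Cfsg.Agent.H376.Odd8.exists_phi (F := F) h
  have hord : orderOf (φ (A, B)) = Nat.lcm s t := by
    rw [orderOf_injective _ hφ, Prod.orderOf_mk, hA, hB]
  refine ⟨QuotientGroup.mk (φ (A, B)), ?_⟩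
  apply Nat.dvd_antisymm
  · rw [← hord]
    exact orderOf_map_dvd (QuotientGroup.mk' _) _
  · rw [← hord]
    apply orderOf_dvd_of_pow_eq_one
    set d := orderOf (QuotientGroup.mk (φ (A, B)) : Cfsg.PSp n F) with hd
    have h3 : φ (A, B) ^ d ∈ Subgroup.center (Matrix.symplecticGroup (Fin n) F) := by
      rw [← QuotientGroup.eq_one_iff, QuotientGroup.mk_pow, hd, pow_orderOf_eq_one]
    rcases ClassicalGeometry.SympInvolutions.center_eq h3 with h4 | h4
    · exact Subtype.ext h4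
    · exfalso
      rw [← map_pow] at h4
      have h5 := (hφ1 _ h4).2
      have h6 : (B ^ d).1 = -1 := h5
      have h7 : ((B ^ d) ^ t).1 = 1 := by
        rw [← pow_mul, mul_comm, pow_mul, ← hB, pow_orderOf_eq_one, one_pow]
        rfl
      have h8 : ((B ^ d) ^ t).1 = (B ^ d).1 ^ t := rfl
      rw [h8, h6, ht.neg_one_pow] at h7
      have h9 := congrFun (congrFun h7 (Sum.inl ⟨0, by omega⟩)) (Sum.inl ⟨0, by omega⟩)
      rw [Matrix.neg_apply, Matrix.one_apply_eq] at h9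
      exact h1 h9.symm

theorem coprime_z {q z y : ℕ} (hz : q ^ 2 + 1 = 2 * z) (hzo : z % 2 = 1) (hq : 1 ≤ q) (hy : y ∣ q - 1 ∨ y ∣ q + 1) :
    Nat.Coprime z y := by
  have h1 : y ∣ q ^ 2 - 1 := by
    have h2 : q ^ 2 - 1 = (q + 1) * (q - 1) := by simpa using Nat.sq_sub_sq q 1
    rw [h2]
    rcases hy with h | h
    · exact h.mul_left _
    · exact h.mul_right _
  apply Nat.Coprime.coprime_dvd_right h1
  rw [Nat.coprime_iff_gcd_eq_one]
  have h3 : Nat.gcd z (q ^ 2 - 1) ∣ 2 := by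
    have h4 : Nat.gcd z (q ^ 2 - 1) ∣ q ^ 2 + 1 := by rw [hz]; exact (Nat.gcd_dvd_left _ _).mul_left 2
    have h5 := Nat.dvd_sub h4 (Nat.gcd_dvd_right z (q ^ 2 - 1))
    have h6 : 1 ≤ q ^ 2 := Nat.one_le_pow _ _ hq
    rwa [show q ^ 2 + 1 - (q ^ 2 - 1) = 2 by omega] at h5
  rcases (Nat.dvd_prime Nat.prime_two).1 h3 with h | h
  · exact h
  · exfalso
    have : 2 ∣ z := by rw [← h]; exact Nat.gcd_dvd_left _ _
    omega

/-- the element orders of `PSp₆(q)` -/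
theorem low_sp {p : ℕ} (hp : p.Prime) (hp2 : p ≠ 2) {e : ℕ} (hq : Fintype.card F = p ^ e) (h7 : 7 ≤ Fintype.card F) :
    (∃ g : Cfsg.PSp 3 F, orderOf g = (Fintype.card F ^ 3 - 1) / 2) ∧
    (∃ g : Cfsg.PSp 3 F, orderOf g = (Fintype.card F ^ 3 + 1) / 2) ∧
    (∃ g : Cfsg.PSp 3 F, orderOf g = p * (Fintype.card F ^ 2 + 1)) ∧
    ∀ y : ℕ, y % 2 = 1 → y ∣ Fintype.card F - 1 ∨ y ∣ Fintype.card F + 1 →
      ∃ g : Cfsg.PSp 3 F, orderOf g = y * ((Fintype.card F ^ 2 + 1) / 2) := by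
  classical
  have := Fact.mk hp
  have hpo : Odd p := hp.odd_of_ne_two hp2
  have ho : Odd (Fintype.card F) := by rw [hq]; exact hpo.pow
  have he : e ≠ 0 := by rintro rfl; rw [pow_zero] at hq; omega
  have hpF : p ∣ Fintype.card F := by rw [hq]; exact dvd_pow_self p he
  have h1 : (1 : F) ≠ -1 := by
    obtain ⟨p', hp', -, _, h2, -⟩ := Cfsg.Agent.H376.Odd8.exists_char ho
    intro h
    apply h2
    have : (1 : F) + 1 = 0 := by rw [eq_neg_iff_add_eq_zero] at h; exact h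
    rw [← this]; norm_num
  obtain ⟨a, z, hqa, hz, e1, e2, e3, e4, e5⟩ := odd_arith (Nat.odd_iff.1 ho)
  set q := Fintype.card F with hqdef
  have hq1 : 1 ≤ q := by omega
  have hev : 2 ∣ q ^ 3 - 1 := even_iff_two_dvd.1 (Nat.Odd.sub_odd ho.pow odd_one)
  have hev' : 2 ∣ q ^ 3 + 1 := even_iff_two_dvd.1 ho.pow.add_one
  have hge : 7 ^ 3 ≤ q ^ 3 := Nat.pow_le_pow_left h7 3
  have hA : ∃ A : Matrix.symplecticGroup (Fin 2) F, orderOf A = q ^ 2 + 1 := by
    have := exists_plus F 2 (by norm_num)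
    rwa [Nat.card_eq_fintype_card] at this
  refine ⟨?_, ?_, ?_, ?_⟩
  · refine Cfsg.Agent.H377.exists_psp_tor_plus (by norm_num) (by omega) (Or.inr ?_)
    rw [Nat.card_eq_fintype_card, Nat.mul_div_cancel' hev]
  · refine Cfsg.Agent.H377.exists_psp_tor_minus (by norm_num) (by omega) (Or.inr ?_)
    rw [Nat.card_eq_fintype_card, Nat.mul_div_cancel' hev']
  · obtain ⟨B, hB⟩ := exists_prime_orderOf_dvd_card' (G := Matrix.symplecticGroup (Fin 1) F) p
      (by
        rw [LieClassical.SympCount.card_symplecticGroup]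
        apply Dvd.dvd.mul_right
        exact dvd_pow hpF (by norm_num))
    obtain ⟨g, hg⟩ := exists_pair h1 (a := 2) (b := 1) (n := 3) le_rfl rfl hA ⟨B, hB⟩ hpo
    refine ⟨g, ?_⟩
    rw [hg, mul_comm]
    apply Nat.Coprime.lcm_eq_mul
    rw [Nat.coprime_comm, Nat.Prime.coprime_iff_not_dvd hp]
    intro hd
    exact hp.one_lt.ne' (Nat.dvd_one.1 ((Nat.dvd_add_right (hpF.trans (dvd_pow_self q two_ne_zero))).1 hd))
  · intro y hyo hy
    have hA' : ∃ A : Matrix.symplecticGroup (Fin 2) F, orderOf A = z :=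
      exists_of_dvd (N := q ^ 2 + 1) (by omega) ⟨2, by rw [e1]; ring⟩ hA
    have hB' : ∃ B : Matrix.symplecticGroup (Fin 1) F, orderOf B = y := by
      rcases hy with h | h
      · have h3 := exists_minus F 1 one_ne_zero
        rw [Nat.card_eq_fintype_card, pow_one] at h3
        exact exists_of_dvd (N := q - 1) (by omega) h h3
      · have h3 := exists_plus F 1 one_ne_zero
        rw [Nat.card_eq_fintype_card, pow_one] at h3
        exact exists_of_dvd (N := q + 1) (by omega) h h3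
    obtain ⟨g, hg⟩ := exists_pair h1 (a := 2) (b := 1) (n := 3) le_rfl rfl hA' hB' (Nat.odd_iff.2 hyo)
    refine ⟨g, ?_⟩
    rw [hg, hz, mul_comm y]
    exact (coprime_z e1 (by omega) hq1 hy).lcm_eq_mul

/-- **`LW` for `PSp₆(q)`.** -/
theorem lw_sp {p : ℕ} (hp : p.Prime) (hp2 : p ≠ 2) {e : ℕ} (hq : Fintype.card F = p ^ e) (h7 : 7 ≤ Fintype.card F)
    {W : ℕ → Prop} (hW : ∀ n, W n ↔ ∃ g : Cfsg.PSp 3 F, orderOf g = n) :
    (∃ k A k' B, LW p (Fintype.card F) k A k' B W) ∧ W (p * (Fintype.card F ^ 2 + 1)) ∧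
      ∀ n, W n → UC p (Fintype.card F) n := by
  obtain ⟨l1, l2, l3, l4⟩ := low_sp hp hp2 hq h7
  have := Fact.mk hp
  have hch : CharP F p := Cfsg.Agent.H411.Six.charP_of_card hp (by
    rcases Nat.eq_zero_or_pos e with rfl | h
    · rw [pow_zero] at hq; omega
    · exact h) hq
  have hfin : Finite (Cfsg.PSp 3 F) := inferInstance
  have hdvd : ∀ n d : ℕ, W n → d ∣ n → W d := by
    intro n d hn hd
    obtain ⟨g, hg⟩ := (hW n).1 hn
    rw [hW]
    have hn0 : n ≠ 0 := by rw [← hg]; exact (orderOf_pos g).ne'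
    exact exists_of_dvd hn0 hd ⟨g, hg⟩
  have U : ∀ n, W n → UC p (Fintype.card F) n := by
    intro n hn
    obtain ⟨g, rfl⟩ := (hW n).1 hn
    exact ub_sp hp2 g
  have ho : Fintype.card F % 2 = 1 := by
    rw [hq, ← Nat.odd_iff]
    exact (hp.odd_of_ne_two hp2).pow
  obtain ⟨a, z, hqa, hz, e1, e2, e3, e4, e5⟩ := odd_arith ho
  refine ⟨lw_of_list hp hp2 hq h7 ?_ hdvd (fun n hn => (U n hn).toG ho) ((hW _).2 l1) ((hW _).2 l2) ?_
    (fun y h1 h2 => (hW _).2 (l4 y h1 h2)), (hW _).2 l3, U⟩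
  · intro n hn
    obtain ⟨g, rfl⟩ := (hW n).1 hn
    exact orderOf_pos g
  · refine hdvd _ _ ((hW _).2 l3) ?_
    rw [hz, e1]
    exact ⟨2, by ring⟩

end

end Cfsg.Agent.R2.Spec.X4
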