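import Cfsg.Agent.R2.Spec.X4.Own
import Cfsg.Agent.R2.Spec.X4.OctSub
import Cfsg.Agent.H376.Six.Gtwo

/-!
# Box X4 of S3435, own characteristic: `S` is not `G₂(q)` (helper19)
-/

set_option autoImplicit false
set_option linter.unusedSectionVars false

namespace Cfsg.Agent.R2.Spec.X4

open Subgroup
open Cfsg.Agent.H420.QR (Red IsCoq card_eq_mul)
open Cfsg.Agent.H229.T (zt act mem_zt zt_ne_bot exists_commute)
open Cfsg.Agent.H161.Oct (AutO)

universe u v w

variable {G : Type u} [Group G] [Finite G] {K : Subgroup G} [K.Normal] {S : Subgroup (G ⧸ K)} [S.Normal]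
  {W : ℕ → Prop}

/-- **`S` is not `G₂(q)`.** -/
theorem own_g2 (R : Red G K S) (hn : Group.IsNilpotent K) {p q k A k' B : ℕ}
    (hL : LW p q k A k' B W) (hW : ∀ n : ℕ, W n ↔ ∃ g : G, orderOf g = n) {F : Type w} [Field F] [Fintype F]
    (hF : Fintype.card F = q) (e : ↥S ≃* ↥(Cfsg.Lie.chevG2.group F)) : False := by
  classical
  have hX := sx_of_red R hn hL hW
  obtain ⟨m, r, hm, hq, hr, hr2, hrp, hrz, hlt, h6⟩ := hL.own_prime
  have hp := hL.pp
  have := Fact.mk hp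
  have hch : CharP F p := Cfsg.Agent.H376.Six.charP_of_card hp (hF.trans hq)
  have hq7 := hL.q7
  -- `r` does not divide the order of `S`
  have hcS : Nat.card S = q ^ 6 * (q ^ 2 - 1) * (q ^ 6 - 1) := by
    rw [Nat.card_congr e.toEquiv, Cfsg.Agent.S1059.result (F := F) hF]
  have e6 : q ^ 6 - 1 = p ^ (6 * m) - 1 := by rw [hq, ← pow_mul, mul_comm]
  have h26 : q ^ 2 - 1 ∣ q ^ 6 - 1 := by
    have := Nat.sub_dvd_pow_sub_pow (q ^ 2) 1 3
    rwa [one_pow, ← pow_mul] at this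
  have hrS : ¬ r ∣ Nat.card S := by
    rw [hcS]
    intro h
    simp only [hr.dvd_mul] at h
    rcases h with (h | h) | h
    · rw [hq, ← pow_mul] at h
      exact hrp (hr.dvd_of_dvd_pow h)
    · exact h6 (e6 ▸ h.trans h26)
    · exact h6 (e6 ▸ h)
  have hri : ¬ r ∣ S.index := by
    intro h
    have h1 := h.trans hX.out
    rw [Cfsg.Agent.H934.OutB.card_out_congr e, Cfsg.Agent.S2121.result (F := F) p m (hF.trans hq)
      (by rw [← hq]; omega)] at h1
    have h2 : r ∣ 2 * m := by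
      split at h1
      · exact h1
      · exact h1.mul_left 2
    have := Nat.le_of_dvd (by omega) h2
    omega
  have hrK : r ∣ Nat.card K := by
    have h1 : W r := hL.dvd _ _ hL.Wz hrz
    rcases hX.cov r hr h1 with h | h | h
    · exact absurd h hrS
    · exact h
    · exact absurd h hri
  -- a prime divisor of `k`
  obtain ⟨s, hs, hsk⟩ := Nat.exists_prime_and_dvd hL.k_pos.1.ne'
  have hsA : s ∣ A := hsk.trans (hL.side.kA hL.q2)
  have hrs : r ≠ s := by
    rintro rfl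
    exact (hL.side.z_prime hL.q2 hr hrz).2.2.1 hsA
  have hnW : ¬ W (r * s) := by
    intro h
    have h1 := hL.uk s hs hsk _ h (dvd_mul_left _ _)
    exact (hL.side.z_prime hL.q2 hr hrz).2.2.1 ((dvd_mul_right _ _).trans h1)
  have hsS : s ∣ Nat.card S := by
    rw [hcS]
    apply Dvd.dvd.mul_left
    have h1 : s ∣ 2 * A * (2 * B) := (hsA.mul_left 2).mul_right _
    have h2 : 2 * A * (2 * B) = q ^ 6 - 1 := by
      rcases hL.side.two_mul with ⟨-, a, b, -⟩ | ⟨-, a, b, -⟩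
      · have : (q ^ 3) ^ 2 = q ^ 6 := by ring
        rw [← this, ← a, show 2 * B = 2 * A + 1 + 1 by omega]
        have : (2 * A + 1) ^ 2 = 2 * A * (2 * A + 1 + 1) + 1 := by ring
        omega
      · have : (q ^ 3) ^ 2 = q ^ 6 := by ring
        rw [← this, ← b, show 2 * A = 2 * B + 1 + 1 by omega]
        have : (2 * B + 1) ^ 2 = (2 * B + 1 + 1) * (2 * B) + 1 := by ring
        omega
    rwa [h2] at h1
  have hinj := act_inj R hn hW hr hs hrs hrK hsS hL.dvd hnW
  -- transport to the octonions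
  obtain ⟨e'⟩ := Cfsg.Agent.H148.Oct.nonempty_equiv F
  set ψ : ↥(AutO F) ≃* S := e'.trans e.symm with hψ
  have h2F : (2 : F) ≠ 0 := by
    intro h
    have h1 : ((2 : ℕ) : F) = 0 := by exact_mod_cast h
    rw [CharP.cast_eq_zero_iff F p] at h1
    exact hL.p2 ((Nat.prime_dvd_prime_iff_eq hp Nat.prime_two).1 h1)
  have hrq : ¬ r ∣ Fintype.card F := by
    rw [hF, hq]
    exact fun h => hrp (hr.dvd_of_dvd_pow h)
  obtain ⟨g, hg, v, hv1, hv⟩ := Oct.exists_fixed (p := p) hr hrq (Cfsg.Agent.H229.T.pow_eq K r)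
    (((act K r).comp S.subtype).comp ψ.toMonoidHom) h2F (hinj.comp ψ.injective)
  have ho : orderOf ((ψ g : S) : G ⧸ K) = 4 * p := by
    rw [Subgroup.orderOf_coe, MulEquiv.orderOf_eq, hg]
  obtain ⟨n, hn1, hn2, hn3⟩ := exists_of_fixed hW hr ((ψ g : S) : G ⧸ K) v hv1 hv
  rw [ho] at hn2
  have h1 := hL.upz r hr hrz n hn1 hn3 ((dvd_mul_left p 4).trans hn2)
  -- `4 ∣ p (q² + 1)`
  have h4 : 4 ∣ p * (q ^ 2 + 1) := (dvd_mul_right 4 p).trans (hn2.trans h1)
  have hp4 : Nat.Coprime 4 p := by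
    have h1 : Nat.Coprime 2 p := (Nat.coprime_primes Nat.prime_two hp).2 (Ne.symm hL.p2)
    exact Nat.Coprime.pow_left 2 h1
  have h5 : 4 ∣ q ^ 2 + 1 := hp4.dvd_of_dvd_mul_left h4
  have h7 := hL.side.z
  omega

end Cfsg.Agent.R2.Spec.X4
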