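import Cfsg.Agent.R2.Spec.X4.Own
import Cfsg.Agent.H228.E3L2a
import Cfsg.Agent.H163.PG.Ord
import Cfsg.Agent.H376.Six.Gtwo
import Cfsg.Agent.H426.LieFam

/-!
# Box X4 of S3435, own characteristic: `S` is not `L₂(q³)` (helper19)
-/

set_option autoImplicit false
set_option linter.unusedSectionVars false

namespace Cfsg.Agent.R2.Spec.X4

open Subgroup
open Cfsg.Agent.H420.QR (Red IsCoq card_eq_mul)

universe u v w

theorem center_bot {S : Type u} [Group S] (hS : IsSimpleGroup S) (hna : ¬ IsMulCommutative S) :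
    Subgroup.center S = ⊥ := by
  have hN : (Subgroup.center S).Normal := inferInstance
  rcases hN.eq_bot_or_eq_top with h | h
  · exact h
  · exfalso
    apply hna
    refine ⟨⟨fun a b => ?_⟩⟩
    have h1 : b ∈ Subgroup.center S := by rw [h]; trivial
    exact (Subgroup.mem_center_iff.1 h1 a)

theorem center_bot_congr {S : Type u} [Group S] {T : Type v} [Group T] (e : S ≃* T) (h : Subgroup.center S = ⊥) :
    Subgroup.center T = ⊥ := by
  rw [eq_bot_iff]
  intro z hz
  have h5 : e.symm z ∈ Subgroup.center S := by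
    rw [mem_center_iff]
    intro g
    have h6 := (mem_center_iff.1 hz) (e g)
    apply e.injective
    rw [map_mul, map_mul, MulEquiv.apply_symm_apply, h6]
  rw [h, Subgroup.mem_bot] at h5
  rw [Subgroup.mem_bot, ← e.apply_symm_apply z, h5, map_one]

variable {G : Type u} [Group G] [Finite G] {K : Subgroup G} [K.Normal] {S : Subgroup (G ⧸ K)} [S.Normal]
  {W : ℕ → Prop}

/-- **`S` is not `L₂(q³)`.** -/
theorem own_l2 (R : Red G K S) (hn : Group.IsNilpotent K) {p q k A k' B : ℕ}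
    (hL : LW p q k A k' B W) (hW : ∀ n : ℕ, W n ↔ ∃ g : G, orderOf g = n) {E : Type} [Field E] [Fintype E]
    (hE : Fintype.card E = q ^ 3) (e : ↥S ≃* Matrix.ProjectiveSpecialLinearGroup (Fin 2) E) : False := by
  classical
  have hX := sx_of_red R hn hL hW
  obtain ⟨m, r, hm, hq, hr, hr2, hrp, hrz, hlt, h6⟩ := hL.own_prime
  have hp := hL.pp
  have := Fact.mk hp
  have hE' : Fintype.card E = p ^ (3 * m) := by rw [hE, hq, ← pow_mul, mul_comm]
  have hch : CharP E p := Cfsg.Agent.H376.Six.charP_of_card hp hE'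
  have hq7 := hL.q7
  have hE4 : 4 ≤ Fintype.card E := by
    rw [hE]
    calc 4 ≤ q := by omega
      _ ≤ q ^ 3 := Nat.le_self_pow (by norm_num) q
  -- `r` does not divide the order of `S`
  obtain ⟨d, N, hsh⟩ := Cfsg.Agent.H426.LieFam.sh_psl (f := 3 * m) (by omega) hE' le_rfl hp
  have heq := hsh.eq
  rw [← Nat.card_congr e.toEquiv] at heq
  have hfac : ((Cfsg.Agent.H426.LieFam.Fam.psl 2).facs.map (Cfsg.Agent.H414.LieShape.Fac.val (p ^ (3 * m)))).prod =
      p ^ (6 * m) - 1 := by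
    have h1 : (p ^ (3 * m)) ^ 2 = p ^ (6 * m) := by rw [← pow_mul]; congr 1; ring
    simp [Cfsg.Agent.H426.LieFam.Fam.facs, Cfsg.Agent.H414.LieShape.Fac.val, h1]
  rw [hfac] at heq
  have hrS : ¬ r ∣ Nat.card S := by
    intro h
    have h1 : r ∣ (p ^ (3 * m)) ^ N * (p ^ (6 * m) - 1) := by rw [← heq]; exact h.mul_left d
    rcases hr.dvd_mul.1 h1 with h2 | h2
    · exact hrp (hr.dvd_of_dvd_pow (hr.dvd_of_dvd_pow h2))
    · exact h6 h2
  have hri : ¬ r ∣ S.index := by
    intro h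
    have h1 := h.trans hX.out
    have hZ := center_bot_congr e (center_bot R.simple R.nonab)
    rw [Cfsg.Agent.H934.OutB.card_out_congr e, Cfsg.Agent.H163.PG.card_out_psl_two hp (by omega) hE' hE4 hZ] at h1
    rcases hr.dvd_mul.1 h1 with h2 | h2
    · rcases hr.dvd_mul.1 h2 with h3 | h3
      · have := Nat.le_of_dvd (by omega) h3
        omega
      · have := Nat.le_of_dvd (by omega) h3
        omega
    · exact hr2 ((Nat.prime_dvd_prime_iff_eq hr Nat.prime_two).1 (h2.trans (Nat.gcd_dvd_left _ _)))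
  have hrK : r ∣ Nat.card K := by
    have h1 : W r := hL.dvd _ _ hL.Wz hrz
    rcases hX.cov r hr h1 with h | h | h
    · exact absurd h hrS
    · exact h
    · exact absurd h hri
  -- a prime divisor of `q² + q + 1`
  have hz := hL.side.z_prime hL.q2 hr hrz
  obtain ⟨s, hs, hsq, hsc⟩ : ∃ s : ℕ, s.Prime ∧ s ∣ q ^ 3 - 1 ∧ ((s ∣ k ∧ s ∣ A) ∨ (s ∣ k' ∧ s ∣ B)) := by
    have h2 := hL.k_pos
    rcases hL.side.two_mul with ⟨-, a, b, -⟩ | ⟨-, a, b, -⟩
    · obtain ⟨s, hs, hsk⟩ := Nat.exists_prime_and_dvd h2.1.ne'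
      have hsA := hsk.trans (hL.side.kA hL.q2)
      exact ⟨s, hs, by rw [← a, Nat.add_sub_cancel]; exact hsA.mul_left 2, Or.inl ⟨hsk, hsA⟩⟩
    · obtain ⟨s, hs, hsk⟩ := Nat.exists_prime_and_dvd h2.2.ne'
      have hsA := hsk.trans (hL.side.kB hL.q2)
      exact ⟨s, hs, by rw [← b, Nat.add_sub_cancel]; exact hsA.mul_left 2, Or.inr ⟨hsk, hsA⟩⟩
  have hpp := hL.side.prime hL.q2 hs (hsc.imp And.left And.left)
  have hrs : r ≠ s := by
    rintro rfl
    rcases hsc with h | h
    · exact hz.2.2.1 h.2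
    · exact hz.2.2.2.1 h.2
  have hps : p ≠ s := by
    rintro rfl
    exact hpp.2.2.1 hL.p_dvd
  have hpr : p ≠ r := by
    rintro rfl
    exact hrp dvd_rfl
  have hmov : F1.MovW S p s := by
    have h1 := Cfsg.Agent.H228.E3.mov_l2 (F := E) hp hL.p2 hs (by omega) (by rw [hE]; exact hsq)
    exact (F1.MovW.congr e).2 (F1.MovW.of_mov h1 (Or.inl hL.p2))
  have hWr := hX.kadj r p s hr hp hs hrK (by omega) hps hpr hrs.symm hmov
  rcases hsc with h | h
  · exact hz.2.2.1 ((dvd_mul_left r s).trans (hL.uk s hs h.1 _ hWr (dvd_mul_right _ _)))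
  · exact hz.2.2.2.1 ((dvd_mul_left r s).trans (hL.uk' s hs h.1 _ hWr (dvd_mul_right _ _)))

end Cfsg.Agent.R2.Spec.X4
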