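import Cfsg.Agent.R2.Spec.X4.OwnB3d
import Cfsg.Agent.R2.Spec.X4.OwnG2
import Cfsg.Agent.R2.Spec.X4.OwnL2
import Cfsg.Agent.R2.Spec.X4.LSpLow
import Cfsg.Agent.R2.Spec.X4.LOm
import Cfsg.Agent.R2.Spec.X4.LPl
import Cfsg.Agent.H200.STwo.Frame
import Cfsg.Agent.H228.E3L2
import Cfsg.Agent.S0270
import Cfsg.Agent.S0295
import Cfsg.Agent.S0296
import Cfsg.Agent.S3440
import Cfsg.Agent.S3534
import Cfsg.Agent.S3535
import Cfsg.Agent.S3671

/-!
# Box X4 of S3435: the frame (helper19)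

* `LH p F L` : `L` is `PSp₆(q)`, `Ω₇(q)` or `PΩ₈⁺(q)`, `q ≥ 7` a power of the odd prime `p`;
* `LH.data` : the facts about `ω(L)`;
* `exists_iso_of` : the simple section of a group isospectral to `L` is `L`, given the rows.
-/

set_option autoImplicit false
set_option linter.unusedSectionVars false

namespace Cfsg.Agent.R2.Spec.X4

open Subgroup Cfsg
open Cfsg.Agent.H420.QR (Red IsCoq)
open Cfsg.Agent.H426.LieFam (Fam)
open Cfsg.Agent.H200.STwo (Named.exists_factor Named.named_cases)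
open Cfsg.Agent.H200.STwo.Frame (card_psl_three)

universe u v

/-- the three families -/
inductive Ty | C | B | D

/-- the group -/
def Ty.Is (F : Type) [Field F] [Fintype F] (L : Type v) [Group L] : Ty → Prop
  | .C => Nonempty (L ≃* PSp 3 F)
  | .B => Nonempty (L ≃* POmega F (quadFormOdd 3 F))
  | .D => Nonempty (L ≃* POmega F (quadFormPlus 4 F))

/-- the setting -/
structure LH (p : ℕ) (t : Ty) (F : Type) [Field F] [Fintype F] (L : Type v) [Group L] : Prop where
  pp : p.Prime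
  p2 : p ≠ 2
  card : ∃ e, Fintype.card F = p ^ e
  q7 : 7 ≤ Fintype.card F
  typ : t.Is F L

variable {p : ℕ} {t : Ty} {F : Type} [Field F] [Fintype F] {L : Type v} [Group L]

theorem LH.odd (H : LH p t F L) : Odd (Fintype.card F) := by
  obtain ⟨e, he⟩ := H.card
  rw [he]
  exact (H.pp.odd_of_ne_two H.p2).pow

theorem LH.finite (H : LH p t F L) : Finite L := by
  have h := H.typ
  cases t with
  | C => obtain ⟨e⟩ := h; exact Finite.of_equiv _ e.symm.toEquiv
  | B => obtain ⟨e⟩ := h; exact Finite.of_equiv _ e.symm.toEquiv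
  | D => obtain ⟨e⟩ := h; exact Finite.of_equiv _ e.symm.toEquiv

theorem LH.simple (H : LH p t F L) : IsSimpleGroup L := by
  have h := H.typ
  cases t with
  | C =>
    obtain ⟨e⟩ := h
    have := Cfsg.Agent.S0270.result (F := F) 3 (by norm_num) (by norm_num)
    exact e.isSimpleGroup_congr.2 this
  | B =>
    obtain ⟨e⟩ := h
    have := Cfsg.Agent.S0295.result (F := F) H.odd 3 (by norm_num)
    exact e.isSimpleGroup_congr.2 this
  | D =>
    obtain ⟨e⟩ := h
    have := Cfsg.Agent.S0296.result (F := F) 4 (by norm_num)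
    exact e.isSimpleGroup_congr.2 this

/-- the lists -/
def Ty.U (p q : ℕ) : Ty → ℕ → Prop
  | .C => UC p q
  | .B => UB p q
  | .D => UD p q

/-- the additional order -/
def Ty.ex (p q : ℕ) (W : ℕ → Prop) : Ty → Prop
  | .C => W (p * (q ^ 2 + 1))
  | .B => True
  | .D => W ((q ^ 4 - 1) / 4)

theorem exists_congr_ord {A B : Type*} [Group A] [Group B] (e : A ≃* B) {n : ℕ} (h : ∃ x : B, orderOf x = n) :
    ∃ x : A, orderOf x = n := by
  obtain ⟨x, hx⟩ := h
  exact ⟨e.symm x, by rw [MulEquiv.orderOf_eq, hx]⟩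

theorem W_dvd {A : Type*} [Group A] [Finite A] {n d : ℕ} (h : ∃ x : A, orderOf x = n) (hd : d ∣ n) :
    ∃ x : A, orderOf x = d := by
  obtain ⟨x, rfl⟩ := h
  obtain ⟨j, hj⟩ := exists_pow_of_dvd hd
  exact ⟨_, hj⟩

/-- the facts about `ω(L)` -/
theorem LH.data (H : LH p t F L) : (∃ k A k' B, LW p (Fintype.card F) k A k' B (fun n => ∃ x : L, orderOf x = n)) ∧
    (∀ x : L, t.U p (Fintype.card F) (orderOf x)) ∧ t.ex p (Fintype.card F) (fun n => ∃ x : L, orderOf x = n) := by
  have hfin := H.finite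
  obtain ⟨e, he⟩ := H.card
  have hp := H.pp
  have hp2 := H.p2
  have h7 := H.q7
  have ho := Nat.odd_iff.1 H.odd
  have h := H.typ
  cases t with
  | C =>
    obtain ⟨ε⟩ := h
    have hU := lw_sp (F := F) hp hp2 he h7 (W := fun n => ∃ x : L, orderOf x = n) (fun n => ⟨exists_congr_ord ε.symm, exists_congr_ord ε⟩)
    exact ⟨hU.1, fun x => hU.2.2 _ ⟨x, rfl⟩, hU.2.1⟩
  | B =>
    obtain ⟨ε⟩ := h
    have hU : ∀ x : L, UB p (Fintype.card F) (orderOf x) := by
      intro x
      have h1 := LO.om_ub hp hp2 he (ε x)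
      rw [MulEquiv.orderOf_eq] at h1
      exact h1
    refine ⟨lw_of_list (W := fun n => ∃ x : L, orderOf x = n) hp hp2 he h7 ?_ (fun n d h1 h2 => W_dvd h1 h2) ?_ ?_ ?_ ?_ ?_, hU, trivial⟩
    · rintro n ⟨x, rfl⟩
      exact orderOf_pos x
    · rintro n ⟨x, rfl⟩
      exact ((hU x).toC ho).toG ho
    · exact exists_congr_ord ε (LO.om_sub hp hp2 he)
    · exact exists_congr_ord ε (LO.om_add hp hp2 he)
    · exact exists_congr_ord ε (LO.om_pz hp hp2 he)
    · exact fun y h1 h2 => exists_congr_ord ε (LO.om_yz hp hp2 he h1 h2)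
  | D =>
    obtain ⟨ε⟩ := h
    have hU : ∀ x : L, UD p (Fintype.card F) (orderOf x) := by
      intro x
      have h1 := LO.pl_ub hp hp2 he (ε x)
      rw [MulEquiv.orderOf_eq] at h1
      exact h1
    refine ⟨lw_of_list (W := fun n => ∃ x : L, orderOf x = n) hp hp2 he h7 ?_ (fun n d h1 h2 => W_dvd h1 h2) ?_ ?_ ?_ ?_ ?_, hU,
      exists_congr_ord ε (LO.pl_quarter hp hp2 he)⟩
    · rintro n ⟨x, rfl⟩
      exact orderOf_pos x
    · rintro n ⟨x, rfl⟩
      exact (hU x).toG ho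
    · exact exists_congr_ord ε (LO.pl_sub hp hp2 he)
    · exact exists_congr_ord ε (LO.pl_add hp hp2 he)
    · exact exists_congr_ord ε (LO.pl_pz hp hp2 he)
    · exact fun y h1 h2 => exists_congr_ord ε (LO.pl_yz hp hp2 he h1 h2)

theorem Ty.toG {q : ℕ} (ho : q % 2 = 1) {n : ℕ} (h : t.U p q n) : UG p q n := by
  cases t with
  | C => exact UC.toG ho h
  | B => exact (UB.toC ho h).toG ho
  | D => exact UD.toG ho h

end Cfsg.Agent.R2.Spec.X4
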