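import Cfsg.Agent.R2.Spec.X4.Disp
import Cfsg.Agent.SmallSimple.S1000.PSLFacts

/-!
# Box X4 of S3435: the dispatcher (helper19)

* `exists_iso_of` : the simple section of a group isospectral to `L` is `L`, given the rows.
-/

set_option autoImplicit false
set_option linter.unusedSectionVars false

namespace Cfsg.Agent.R2.Spec.X4

open Subgroup Cfsg
open Cfsg.Agent.H420.QR (Red IsCoq)
open Cfsg.Agent.H426.LieFam (Fam)
open Cfsg.Agent.H200.STwo (Named.exists_factor Named.named_cases)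
open Cfsg.Agent.H200.STwo.Frame (card_psl_three)

universe u v

section

variable {p q k A k' B : ℕ} {W : ℕ → Prop}

/-- a coclique, and a prime not adjacent to `2` -/
theorem LW.exists_coq (hL : LW p q k A k' B W) {G : Type u} [Group G] [Finite G]
    (hW : ∀ n : ℕ, W n ↔ ∃ g : G, orderOf g = n) :
    (∃ ρ : Finset ℕ, IsCoq G ρ ∧ 3 ≤ ρ.card ∧ ∀ r ∈ ρ, 5 ≤ r) ∧
      ∃ r : ℕ, r.Prime ∧ r ≠ 2 ∧ r ∣ Nat.card G ∧ ¬ ∃ x : G, orderOf x = 2 * r := by
  have hdvd : ∀ {r : ℕ}, W r → r ∣ Nat.card G := by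
    intro r h
    obtain ⟨g, hg⟩ := (hW r).1 h
    rw [← hg]
    exact orderOf_dvd_natCard g
  have hk := hL.k_pos
  obtain ⟨r, hr, hrk⟩ := Nat.exists_prime_and_dvd hk.1.ne'
  obtain ⟨s, hs, hsk⟩ := Nat.exists_prime_and_dvd hk.2.ne'
  obtain ⟨e, t, -, -, ht, ht2, -, htz, -⟩ := hL.own_prime
  have h7 := (hL.side.prime hL.q2 hr (Or.inl hrk)).1
  have hrs : r ≠ s := hL.ne_kk hr hrk hsk
  have hrt : r ≠ t := hL.ne_kz hr (Or.inl hrk) (Or.inl htz)
  have hst : s ≠ t := hL.ne_kz hs (Or.inr hsk) (Or.inl htz)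
  have Wr := hL.dvd _ _ hL.Wk.1 hrk
  have Ws := hL.dvd _ _ hL.Wk.2 hsk
  have Wt := hL.dvd _ _ hL.Wz htz
  have nrs : ¬ W (r * s) := fun h => hL.na hr hrk hs hsk h (dvd_mul_right _ _) (dvd_mul_left _ _)
  have nrt : ¬ W (r * t) := fun h => hL.naz hr (Or.inl hrk) ht (Or.inl htz) h (dvd_mul_right _ _) (dvd_mul_left _ _)
  have nst : ¬ W (s * t) := fun h => hL.naz hs (Or.inr hsk) ht (Or.inl htz) h (dvd_mul_right _ _) (dvd_mul_left _ _)
  have nsr : ¬ W (s * r) := by rw [mul_comm]; exact nrs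
  have ntr : ¬ W (t * r) := by rw [mul_comm]; exact nrt
  have nts : ¬ W (t * s) := by rw [mul_comm]; exact nst
  have h7' := (hL.side.prime hL.q2 hs (Or.inr hsk)).1
  have h5 := (hL.side.z_prime hL.q2 ht htz).1
  refine ⟨⟨{r, s, t}, ⟨?_, ?_, ?_⟩, ?_, ?_⟩, r, hr, by omega, hdvd Wr, fun h => hL.two hr hrk ((hW _).2 h)⟩
  · intro a ha
    simp only [Finset.mem_insert, Finset.mem_singleton] at ha
    rcases ha with rfl | rfl | rfl
    · exact hr
    · exact hs
    · exact ht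
  · intro a ha
    simp only [Finset.mem_insert, Finset.mem_singleton] at ha
    rcases ha with rfl | rfl | rfl
    · exact hdvd Wr
    · exact hdvd Ws
    · exact hdvd Wt
  · intro a ha b hb hab hx
    have hx := (hW _).2 hx
    simp only [Finset.mem_insert, Finset.mem_singleton] at ha hb
    rcases ha with rfl | rfl | rfl <;> rcases hb with rfl | rfl | rfl
    · exact hab rfl
    · exact nrs hx
    · exact nrt hx
    · exact nsr hx
    · exact hab rfl
    · exact nst hx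
    · exact ntr hx
    · exact nts hx
    · exact hab rfl
  · rw [Finset.card_insert_of_notMem, Finset.card_insert_of_notMem, Finset.card_singleton]
    · simpa using hst
    · simp only [Finset.mem_insert, Finset.mem_singleton]
      push Not
      exact ⟨hrs, hrt⟩
  · intro a ha
    simp only [Finset.mem_insert, Finset.mem_singleton] at ha
    rcases ha with rfl | rfl | rfl
    · omega
    · omega
    · exact h5

end

/-- `S` of characteristic `p` is not `L₂` if it has an element of order `p z`, `z ≥ 5` -/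
theorem not_l2_of {p : ℕ} (hp : p.Prime) (hp2 : p ≠ 2) {S : Type u} [Group S] [Finite S] {E : Type} [Field E]
    [Fintype E] [CharP E p] (e : S ≃* Matrix.ProjectiveSpecialLinearGroup (Fin 2) E) {z : ℕ} (hz : 5 ≤ z)
    (hx : ∃ x : S, orderOf x = p * z) : False := by
  have hpf := Fact.mk hp
  obtain ⟨f, -, hE⟩ := FiniteField.card E p
  have hodd : Fintype.card E % 2 = 1 := by
    rw [hE, ← Nat.odd_iff]
    exact (hp.odd_of_ne_two hp2).pow
  have h1 : 1 < Fintype.card E := Fintype.one_lt_card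
  have hp3 : 3 ≤ p := by
    have := hp.two_le
    omega
  by_cases h3 : Fintype.card E = 3
  · obtain ⟨x, hx⟩ := hx
    have h4 : p * z ∣ 12 := by
      rw [← hx, ← card_psl_three h3, ← Nat.card_congr e.toEquiv]
      exact orderOf_dvd_natCard x
    have h5 := Nat.le_of_dvd (by norm_num) h4
    nlinarith
  · have h4 : 4 ≤ Fintype.card E := by omega
    obtain ⟨x, hx⟩ := hx
    have hd : p ∣ p ^ (f : ℕ) := dvd_pow_self p f.ne_zero
    have hpo : 1 ≤ p ^ (f : ℕ) := Nat.one_le_pow _ _ hp.pos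
    have ev : p ^ (f : ℕ) % 2 = 1 := by rw [← hE]; exact hodd
    rcases (Cfsg.Agent.H228.E3.mem_l2 (F := E) hp hp2 hE h4 (p * z)).1 ⟨e x, by rw [MulEquiv.orderOf_eq, hx]⟩ with h | h | h
    · have := Nat.le_of_dvd hp.pos h
      nlinarith
    · have h5 : p ∣ p ^ (f : ℕ) - 1 := ((dvd_mul_right p z).trans h).trans (Nat.div_dvd_of_dvd (by omega))
      have h6 := Nat.dvd_sub hd h5
      rw [show p ^ (f : ℕ) - (p ^ (f : ℕ) - 1) = 1 by omega] at h6
      exact hp.one_lt.ne' (Nat.dvd_one.1 h6)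
    · have h5 : p ∣ p ^ (f : ℕ) + 1 := ((dvd_mul_right p z).trans h).trans (Nat.div_dvd_of_dvd (by omega))
      exact hp.one_lt.ne' (Nat.dvd_one.1 ((Nat.dvd_add_right hd).1 h5))

/-- own characteristic: the order `p z` -/
theorem LH.exists_pz {p : ℕ} {t : Ty} {F : Type} [Field F] [Fintype F] {S : Type u} [Group S] (H : LH p t F S) :
    ∃ z, 5 ≤ z ∧ ∃ x : S, orderOf x = p * z := by
  obtain ⟨⟨k, A, k', B, hL⟩, -, -⟩ := H.data
  refine ⟨(Fintype.card F ^ 2 + 1) / 2, ?_, hL.Wpz⟩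
  have h7 := H.q7
  have : 7 * 7 ≤ Fintype.card F ^ 2 := by rw [sq]; exact Nat.mul_le_mul h7 h7
  omega

section

variable {p : ℕ} {t : Ty} {F : Type} [Field F] [Fintype F] {L : Type v} [Group L] {G : Type u} [Group G] [Finite G]

/-- **Own characteristic.** -/
theorem own_case (H : LH p t F L) {K : Subgroup G} [K.Normal] {S : Subgroup (G ⧸ K)} [S.Normal] (R : Red G K S)
    (hn : Group.IsNilpotent K) (hω : ∀ n : ℕ, (∃ x : L, orderOf x = n) ↔ ∃ g : G, orderOf g = n)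
    (hg : Good (fun n => ∃ x : L, orderOf x = n) (Nat.card K) S.index) {t' : Ty} (H' : LH p t' F S) : t' = t := by
  obtain ⟨⟨k, A, k', B, hL⟩, hU, hex⟩ := H.data
  obtain ⟨-, hU', hex'⟩ := H'.data
  have ho := Nat.odd_iff.1 H.odd
  have hp := H.pp
  have hpf := Fact.mk hp
  obtain ⟨e, he⟩ := H.card
  have hch : CharP F p := Cfsg.Agent.H376.Six.charP_of_card hp he
  have h7 := H.q7
  obtain ⟨a, z, hqa, hz, e1, e2, e3, e4, e5⟩ := odd_arith ho
  -- a prime
  obtain ⟨-, r, -, -, hr, hr2, hrp, hrz, -, -⟩ := hL.own_prime_exact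
  obtain ⟨-, hrq, hrA, hrB, hrn⟩ := hL.side.z_prime hL.q2 hr hrz
  have hAB : ¬ r ∣ (Fintype.card F ^ 3 - 1) / 2 ∧ ¬ r ∣ (Fintype.card F ^ 3 + 1) / 2 := by
    rcases hL.side with ⟨-, -, h2, -, h2'⟩ | ⟨-, -, h2, -, h2'⟩
    · rw [← h2, ← h2']; exact ⟨hrA, hrB⟩
    · rw [← h2, ← h2']; exact ⟨hrB, hrA⟩
  have hSL : ∀ n : ℕ, (∃ x : S, orderOf x = n) → ∃ x : L, orderOf x = n := by
    rintro n ⟨x, hx⟩
    exact (hω n).2 (F1.exists_of_quot ⟨(x : G ⧸ K), by rw [Subgroup.orderOf_coe]; exact hx⟩)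
  have hz0 : 0 < z := by omega
  have hrz' : r ∣ z := by rw [← hz]; exact hrz
  -- the order `p (q² + 1)`
  have keyC : t'.ex p (Fintype.card F) (fun n => ∃ x : S, orderOf x = n) → t' = .C → t ≠ .C → False := by
    intro h h1 h2
    subst h1
    obtain ⟨x, hx⟩ := hSL _ h
    have h3 := hU x
    rw [hx] at h3
    have h4 : p * (Fintype.card F ^ 2 + 1) ∣ p * z := by
      rw [← hz]
      have hd1 : r ∣ p * (Fintype.card F ^ 2 + 1) := by rw [e1]; exact (hrz'.mul_left 2).mul_left p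
      cases t with
      | C => exact absurd rfl h2
      | B => exact UB.upz ho hp hL.p_dvd hr hr2 hrp hrz h3 hd1 (dvd_mul_right _ _)
      | D =>
        rcases UD.uz ho hr hr2 hrp hrz h3 hd1 with h5 | h5
        · exfalso
          have h6 : p ∣ Fintype.card F ^ 4 - 1 := by
            refine ((dvd_mul_right p _).trans h5).trans ?_
            rw [e5, e4]
            exact ⟨4, by ring⟩
          have h7 : p ∣ Fintype.card F ^ 4 := hL.p_dvd.trans (dvd_pow_self _ (by norm_num))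
          have h8 := Nat.dvd_sub h7 h6
          have h9 : 1 ≤ Fintype.card F ^ 4 := Nat.one_le_pow _ _ (by omega)
          rw [show Fintype.card F ^ 4 - (Fintype.card F ^ 4 - 1) = 1 by omega] at h8
          exact hp.one_lt.ne' (Nat.dvd_one.1 h8)
        · exact h5
    have h5 := Nat.dvd_of_mul_dvd_mul_left hp.pos h4
    have h6 := Nat.le_of_dvd hz0 h5
    omega
  have keyD : t'.ex p (Fintype.card F) (fun n => ∃ x : S, orderOf x = n) → t' = .D → t ≠ .D → False := by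
    intro h h1 h2
    subst h1
    obtain ⟨x, hx⟩ := hSL _ h
    have h3 := hU x
    rw [hx] at h3
    cases t with
    | C => exact UB.not_four ho h7 hp hL.p_dvd hr hr2 hrp hAB.1 hAB.2 hrz h3
    | B => exact UB.not_four ho h7 hp hL.p_dvd hr hr2 hrp hAB.1 hAB.2 hrz (UB.toC ho h3)
    | D => exact h2 rfl
  cases t' with
  | C =>
    by_contra hne
    exact keyC hex' rfl (fun h => hne h.symm)
  | D =>
    by_contra hne
    exact keyD hex' rfl (fun h => hne h.symm)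
  | B =>
    by_contra hne
    have C : CB p (Fintype.card F) k A k' B (fun n => ∃ x : L, orderOf x = n) F K S :=
      { R := R, nil := hn, hW := hω, lw := hL, card := rfl, good := hg, iso := H'.typ }
    cases t with
    | B => exact hne rfl
    | C =>
      refine C.oc2 ?_ hex
      rintro n ⟨x, rfl⟩
      exact UC.toG ho (hU x)
    | D =>
      refine C.oc3 ?_ hU' hex
      rintro n ⟨x, rfl⟩
      exact hU x

theorem LH.not_comm (H : LH p t F L) : ¬ IsMulCommutative L := by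
  rintro ⟨⟨hc⟩⟩
  have hfin := H.finite
  obtain ⟨⟨k, A, k', B, hL⟩, -, -⟩ := H.data
  have hk := hL.k_pos
  obtain ⟨r, hr, hrk⟩ := Nat.exists_prime_and_dvd hk.1.ne'
  obtain ⟨s, hs, hsk⟩ := Nat.exists_prime_and_dvd hk.2.ne'
  obtain ⟨x, hx⟩ := hL.dvd _ _ hL.Wk.1 hrk
  obtain ⟨y, hy⟩ := hL.dvd _ _ hL.Wk.2 hsk
  have hxy : Commute x y := hc x y
  have h1 : orderOf (x * y) = r * s := by
    rw [hxy.orderOf_mul_eq_mul_orderOf_of_coprime (by
      rw [hx, hy]; exact (Nat.coprime_primes hr hs).2 (hL.ne_kk hr hrk hsk)), hx, hy]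
  exact hL.na hr hrk hs hsk ⟨_, h1⟩ (dvd_mul_right _ _) (dvd_mul_left _ _)

theorem LH.fam (H : LH p t F L) : (Cfsg.IsPSp L ∧ ∀ (F : Type) [Field F] [Fintype F], Fintype.card F = 3 → ¬ Nonempty (L ≃* Cfsg.PSp 2 F)) ∨
      Cfsg.IsPOmegaOdd L ∨ Cfsg.IsPOmegaPlus L ∨ Cfsg.IsPOmegaMinus L := by
  have h := H.typ
  cases t with
  | C =>
    refine Or.inl ⟨⟨F, inferInstance, inferInstance, 3, by norm_num, by norm_num, h⟩, ?_⟩
    rintro E _ _ hE ⟨ε⟩
    obtain ⟨⟨k, A, k', B, hL⟩, -, -⟩ := H.data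
    have hfin := H.finite
    obtain ⟨r, hr, hrk⟩ := Nat.exists_prime_and_dvd hL.k_pos.1.ne'
    have h7 := (hL.side.prime hL.q2 hr (Or.inl hrk)).1
    obtain ⟨x, hx⟩ := hL.dvd _ _ hL.Wk.1 hrk
    have h1 : r ∣ 2 ^ 6 * (3 ^ 4 * 5) := by
      have h2 : Nat.card L = 2 ^ 6 * (3 ^ 4 * 5) := by
        rw [Nat.card_congr ε.toEquiv, Cfsg.Agent.SmallSimple.PSLFacts.card_psp_two_three hE]
        norm_num
      rw [← h2, ← hx]
      exact orderOf_dvd_natCard x
    rcases hr.dvd_mul.1 h1 with h2 | h2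
    · have := Nat.le_of_dvd (by norm_num) (hr.dvd_of_dvd_pow h2)
      omega
    · rcases hr.dvd_mul.1 h2 with h2 | h2
      · have := Nat.le_of_dvd (by norm_num) (hr.dvd_of_dvd_pow h2)
        omega
      · have := Nat.le_of_dvd (by norm_num) h2
        omega
  | B => exact Or.inr (Or.inl ⟨F, inferInstance, inferInstance, 3, le_rfl, H.odd, h⟩)
  | D => exact Or.inr (Or.inr (Or.inl ⟨F, inferInstance, inferInstance, 4, le_rfl, h⟩))

theorem LH.not_alt (H : LH p t F L) (m : ℕ) : ¬ Nonempty (L ≃* alternatingGroup (Fin m)) := by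
  have hfin := H.finite
  have hs := H.simple
  let φ : (⊤ : Subgroup L) ⧸ (⊥ : Subgroup (⊤ : Subgroup L)) ≃* L := QuotientGroup.quotientBot.trans Subgroup.topEquiv
  have h1 : IsSimpleGroup ((⊤ : Subgroup L) ⧸ (⊥ : Subgroup (⊤ : Subgroup L))) := φ.isSimpleGroup_congr.2 hs
  have h2 : ¬ IsMulCommutative ((⊤ : Subgroup L) ⧸ (⊥ : Subgroup (⊤ : Subgroup L))) := by
    rintro ⟨⟨hc⟩⟩
    apply H.not_comm
    refine ⟨⟨fun a b => φ.symm.injective ?_⟩⟩
    rw [map_mul, map_mul, hc]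
  have h3 := Cfsg.Agent.S3534.result (L := L) H.fam (G := L) rfl ⊤ (Subgroup.Normal.isSubnormal inferInstance) ⊥ h1 h2 m
  rintro ⟨e⟩
  exact h3 ⟨φ.trans e⟩

/-- **The dispatcher.** -/
theorem exists_iso_of (H : LH p t F L) (hω : Set.range (orderOf : G → ℕ) = Set.range (orderOf : L → ℕ))
    (hrow : ∀ {k A k' B m i : ℕ} {W : ℕ → Prop} {S : Type u} [Group S], SX p (Fintype.card F) k A k' B m i W S →
      Good W m i → ∀ (f : Fam) (v e : ℕ), v.Prime → v ≠ p → Fam.Is v e S f → False)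
    (hl2 : ∀ {k A k' B m i : ℕ} {W : ℕ → Prop} {S : Type u} [Group S], SX p (Fintype.card F) k A k' B m i W S →
      ∀ (v e : ℕ), v.Prime → v ≠ 2 → v ≠ p → Fam.Is v e S (.psl 2) → False) :
    ∃ (K : Subgroup G) (_ : K.Normal) (S : Subgroup (G ⧸ K)) (_ : S.Normal), Red G K S ∧ Nonempty (↥S ≃* L) := by
  have hfin := H.finite
  have hLs := H.simple
  have hp := H.pp
  have hpf := Fact.mk hp
  obtain ⟨e0, he0⟩ := H.card
  have hch : CharP F p := Cfsg.Agent.H376.Six.charP_of_card hp he0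
  have same : ∀ n : ℕ, (∃ x : L, orderOf x = n) ↔ ∃ g : G, orderOf g = n := by
    intro n
    have h1 : n ∈ Set.range (orderOf : G → ℕ) ↔ n ∈ Set.range (orderOf : L → ℕ) := by rw [hω]
    exact h1.symm
  obtain ⟨⟨k, A, k', B, hL⟩, hU, hex⟩ := H.data
  obtain ⟨⟨ρ, hρ, hρ3, hρ5⟩, hfar⟩ := hL.exists_coq same
  obtain ⟨K, hK, S, hS, R⟩ := H420.QR.exists_red hρ hρ3 hfar
  have hnil : Group.IsNilpotent K := Cfsg.Agent.S3440.result (H420.QR.isCoq_not_solvable hρ hρ3) H.not_comm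
    (H.not_alt 10) hω K R.solv
  have hX := sx_of_red R hnil hL same
  refine ⟨K, hK, S, hS, R, ?_⟩
  have hsimp := R.simple
  obtain ⟨X, hX', N, hN, ⟨φ⟩⟩ := Named.exists_factor R
  have hs : IsSimpleGroup (↥X ⧸ N) := MulEquiv.isSimpleGroup φ
  have hna : ¬ IsMulCommutative (↥X ⧸ N) := by
    rintro ⟨⟨hc⟩⟩
    apply R.nonab
    refine ⟨⟨fun a b => φ.symm.injective ?_⟩⟩
    rw [map_mul, map_mul, hc]
  have halt : ∀ m, ¬ Nonempty (↥S ≃* alternatingGroup (Fin m)) := by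
    rintro m ⟨e⟩
    exact Cfsg.Agent.S3534.result H.fam hω X (Subgroup.Normal.isSubnormal hX') N hs hna m ⟨φ.trans e⟩
  -- the own characteristic
  have own : IsLieTypeChar p ↥S →
      (∃ (E : Type) (_ : Field E) (_ : Fintype E), Fintype.card E = Fintype.card F ^ 3 ∧
        Nonempty (↥S ≃* Matrix.ProjectiveSpecialLinearGroup (Fin 2) E)) ∨ (∃ t' : Ty, LH p t' F ↥S) ∨
        Nonempty (↥S ≃* ↥(Cfsg.Lie.chevG2.group F)) := by
    intro hl
    have hl' : IsLieTypeChar p (↥X ⧸ N) := H340.isLieTypeChar_congr φ hl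
    have hL' : Nonempty (L ≃* Cfsg.PSp 3 F) ∨ (Odd (Fintype.card F) ∧ Nonempty (L ≃* Cfsg.POmega F (Cfsg.quadFormOdd 3 F))) ∨
      Nonempty (L ≃* Cfsg.POmega F (Cfsg.quadFormPlus 4 F)) := by
      have h := H.typ
      cases t with
      | C => exact Or.inl h
      | B => exact Or.inr (Or.inl ⟨H.odd, h⟩)
      | D => exact Or.inr (Or.inr h)
    rcases Cfsg.Agent.S3671.result p hL' hω X (Subgroup.Normal.isSubnormal hX') N hs hna hl' with
      ⟨E, i1, i2, hE, ⟨ε⟩⟩ | ⟨⟨ε⟩⟩ | ⟨⟨ε⟩⟩ | ⟨⟨ε⟩⟩ | ⟨⟨ε⟩⟩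
    · exact Or.inl ⟨E, i1, i2, hE, ⟨φ.symm.trans ε⟩⟩
    · exact Or.inr (Or.inl ⟨.B, ⟨hp, H.p2, H.card, H.q7, ⟨φ.symm.trans ε⟩⟩⟩)
    · exact Or.inr (Or.inl ⟨.C, ⟨hp, H.p2, H.card, H.q7, ⟨φ.symm.trans ε⟩⟩⟩)
    · exact Or.inr (Or.inl ⟨.D, ⟨hp, H.p2, H.card, H.q7, ⟨φ.symm.trans ε⟩⟩⟩)
    · exact Or.inr (Or.inr ⟨φ.symm.trans ε⟩)
  -- `S` is not `L₂(odd)`
  have hAL : ¬ Cfsg.Agent.H414.Rad.AltL2 ↥S := by
    rintro (h | ⟨E, i1, i2, ho, ⟨ε⟩⟩)
    · exact halt 7 h
    · obtain ⟨v, hv⟩ := CharP.exists E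
      have hvp : v.Prime := CharP.char_is_prime E v
      obtain ⟨f, -, hE⟩ := FiniteField.card E v
      have hv2 : v ≠ 2 := by
        rintro rfl
        rw [hE] at ho
        exact Nat.not_odd_iff_even.2 (Nat.even_pow.2 ⟨even_two, f.ne_zero⟩) ho
      have h4 : 4 ≤ Fintype.card E := by
        by_contra h4
        have h1 : 1 < Fintype.card E := Fintype.one_lt_card
        have h2 := Nat.odd_iff.1 ho
        have h3 : Fintype.card E = 3 := by omega
        obtain ⟨-, h5⟩ := R.filter hρ hρ3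
        have h6 : (ρ.filter fun r => r ∣ Nat.card S).Nonempty := by
          rw [← Finset.card_pos]
          omega
        obtain ⟨a, ha⟩ := h6
        obtain ⟨ha1, ha2⟩ := Finset.mem_filter.1 ha
        rw [Nat.card_congr ε.toEquiv, card_psl_three h3] at ha2
        have h7 := hρ5 a ha1
        have h8 := hρ.prime a ha1
        have h9 : a ∣ 2 ^ 2 * 3 := ha2
        rcases h8.dvd_mul.1 h9 with h | h
        · have := Nat.le_of_dvd (by norm_num) (h8.dvd_of_dvd_pow h)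
          omega
        · have := Nat.le_of_dvd (by norm_num) h
          omega
      by_cases h : v = p
      · subst h
        have hl : IsLieTypeChar v ↥S := Or.inl ⟨E, i1, i2, hv, 2, le_rfl, fun _ => h4, ⟨ε⟩⟩
        rcases own hl with ⟨E', i3, i4, hE', ⟨ε'⟩⟩ | ⟨t', H'⟩ | ⟨⟨ε'⟩⟩
        · exact own_l2 R hnil hL same hE' ε'
        · obtain ⟨z, hz, hx⟩ := H'.exists_pz
          exact not_l2_of hp H.p2 ε hz hx
        · exact own_g2 R hnil hL same rfl ε'
      · exact hl2 hX v f hvp hv2 h ⟨le_rfl, fun _ => by rw [← hE]; exact h4, E, i1, i2, hv, hE, ⟨ε⟩⟩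
  have hg := good_of_red R same hAL
  obtain ⟨g, hg'⟩ := H436.name hna
  rcases Named.named_cases hs hg' with ⟨m, h⟩ | h | ⟨⟨e⟩⟩ | ⟨v, hv, hl'⟩
  · exact absurd h (Cfsg.Agent.S3534.result H.fam hω X (Subgroup.Normal.isSubnormal hX') N hs hna m)
  · exact absurd h (Cfsg.Agent.S3535.result H.fam hω X (Subgroup.Normal.isSubnormal hX') N hs hna).1
  · exact absurd ⟨e⟩ (Cfsg.Agent.S3535.result H.fam hω X (Subgroup.Normal.isSubnormal hX') N hs hna).2
  · have hl : IsLieTypeChar v ↥S := H340.isLieTypeChar_congr φ.symm hl'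
    by_cases hvp : v = p
    · subst hvp
      rcases own hl with ⟨E', i3, i4, hE', ⟨ε'⟩⟩ | ⟨t', H'⟩ | ⟨⟨ε'⟩⟩
      · exact (own_l2 R hnil hL same hE' ε').elim
      · have h1 := own_case H R hnil same hg H'
        subst h1
        have h2 := H'.typ
        have h3 := H.typ
        cases t' with
        | C => obtain ⟨a⟩ := h2; obtain ⟨b⟩ := h3; exact ⟨a.trans b.symm⟩
        | B => obtain ⟨a⟩ := h2; obtain ⟨b⟩ := h3; exact ⟨a.trans b.symm⟩
        | D => obtain ⟨a⟩ := h2; obtain ⟨b⟩ := h3; exact ⟨a.trans b.symm⟩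
      · exact (own_g2 R hnil hL same rfl ε').elim
    · exfalso
      obtain ⟨fam, f, d, M, hIs, hSh⟩ := H426.LieFam.exists_fam hv hl
      exact hrow hX hg fam v f hv hvp hIs

end

end Cfsg.Agent.R2.Spec.X4
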