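import Cfsg.Agent.R2.Spec.X4.Base
import Cfsg.Agent.R2.Spec.F1.Bad
import Cfsg.Agent.H390.B6.FromRed
import Cfsg.Agent.H160.NC.Gen
import Cfsg.Agent.S3440

/-!
# Box X4 of S3435: the frame (helper19)

* `sx_of_red` : `SX` from `Red G K S`;
* `good_of_red` : `Good` if `S` is not `A₇`, `L₂(odd)`.
-/

set_option autoImplicit false
set_option linter.unusedSectionVars false

namespace Cfsg.Agent.R2.Spec.X4

open Subgroup
open Cfsg.Agent.H420.QR (Red IsCoq card_eq_mul)
open Cfsg.Agent.H376.Six (order_of_coprime index_dvd_out)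

universe u v

variable {G : Type u} [Group G] [Finite G] {K : Subgroup G} [K.Normal] {S : Subgroup (G ⧸ K)} [S.Normal]

theorem Red.exists_of_S (h : Red G K S) {n : ℕ} (hx : ∃ x : S, orderOf x = n) : ∃ g : G, orderOf g = n :=
  Cfsg.Agent.H414.S88.exists_of_sect hx

/-- the exactness -/
theorem exists_factor {n r : ℕ} (hg : ∃ g : G, orderOf g = n) (hr : r.Prime) (hrn : r ∣ n) (h1 : ¬ r ∣ Nat.card K)
    (h2 : ¬ r ∣ S.index) : ∃ h N c : ℕ, n = h * N * c ∧ h ∣ S.index ∧ (∃ x : S, orderOf x = N) ∧ r ∣ N ∧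
      ∀ s : ℕ, s.Prime → s ∣ c → s ∣ Nat.card K := by
  obtain ⟨g, rfl⟩ := hg
  obtain ⟨y, hy⟩ : ∃ y : G ⧸ K, y = QuotientGroup.mk' K g := ⟨_, rfl⟩
  obtain ⟨z, hz⟩ : ∃ z : (G ⧸ K) ⧸ S, z = QuotientGroup.mk' S y := ⟨_, rfl⟩
  obtain ⟨c, hc⟩ : orderOf y ∣ orderOf g := by rw [hy]; exact orderOf_map_dvd _ g
  obtain ⟨N, hN⟩ : orderOf z ∣ orderOf y := by rw [hz]; exact orderOf_map_dvd _ y
  have hy0 := orderOf_pos y
  have hz0 := orderOf_pos z
  -- the part in `K`
  have hcK : c ∣ Nat.card K := by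
    have e1 : orderOf (g ^ orderOf y) = c := by
      rw [orderOf_pow_of_dvd hy0.ne' ⟨c, hc⟩, hc, Nat.mul_div_cancel_left _ hy0]
    rw [← e1]
    refine Subgroup.orderOf_dvd_natCard K ?_
    rw [← QuotientGroup.eq_one_iff]
    change QuotientGroup.mk' K (g ^ orderOf y) = 1
    rw [map_pow, ← hy, pow_orderOf_eq_one]
  -- the part in `S`
  have hyS : y ^ orderOf z ∈ S := by
    rw [← QuotientGroup.eq_one_iff]
    change QuotientGroup.mk' S (y ^ orderOf z) = 1
    rw [map_pow, ← hz, pow_orderOf_eq_one]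
  have e2 : orderOf (⟨y ^ orderOf z, hyS⟩ : S) = N := by
    rw [← Subgroup.orderOf_coe]
    change orderOf (y ^ orderOf z) = N
    rw [orderOf_pow_of_dvd hz0.ne' ⟨N, hN⟩, hN, Nat.mul_div_cancel_left _ hz0]
  have hzi : orderOf z ∣ S.index := by
    rw [Subgroup.index]
    exact orderOf_dvd_natCard z
  refine ⟨orderOf z, N, c, by rw [hc, hN], hzi, ⟨_, e2⟩, ?_, fun s hs hsc => hsc.trans hcK⟩
  rw [hc, hN] at hrn
  rcases hr.dvd_mul.1 hrn with h3 | h3
  · rcases hr.dvd_mul.1 h3 with h4 | h4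
    · exact absurd (h4.trans hzi) h2
    · exact h4
  · exact absurd (h3.trans hcK) h1

/-- **`SX` from the reduction.** -/
theorem sx_of_red (R : Red G K S) (hn : Group.IsNilpotent K) {p q k A k' B : ℕ} {W : ℕ → Prop}
    (hL : LW p q k A k' B W) (hW : ∀ n : ℕ, W n ↔ ∃ g : G, orderOf g = n) :
    SX p q k A k' B (Nat.card K) S.index W S := by
  have hsimp := R.simple
  have hcent := R.cent
  have hquot : ∀ {n : ℕ}, (∃ a : G ⧸ K, orderOf a = n) → W n := fun h => (hW _).2 (F1.exists_of_quot h)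
  have hdvd : ∀ {r : ℕ}, r.Prime → W r → r ∣ Nat.card G := by
    intro r hr h
    obtain ⟨g, hg⟩ := (hW r).1 h
    rw [← hg]
    exact orderOf_dvd_natCard g
  refine
    { lw := hL
      fin := inferInstance
      simple := R.simple
      nonab := R.nonab
      out := index_dvd_out S R.cent
      WS := fun x => (hW _).2 (Red.exists_of_S R ⟨x, rfl⟩)
      Wm := ?_
      nil := ?_
      cov := ?_
      one := ?_
      kadj := ?_
      ncyc := ?_
      fld := ?_
      fldg := ?_
      cnt := ?_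
      mem := ?_
      ex := ?_ }
  · intro r hr hrm
    have := Fact.mk hr
    obtain ⟨x, hx⟩ := exists_prime_orderOf_dvd_card' (G := K) r hrm
    exact (hW r).2 ⟨x, by rw [Subgroup.orderOf_coe, hx]⟩
  · intro r s hr hs hrs hrm hsm
    have := Fact.mk hr
    have := Fact.mk hs
    obtain ⟨a, ha⟩ := exists_prime_orderOf_dvd_card' (G := K) r hrm
    obtain ⟨b, hb⟩ := exists_prime_orderOf_dvd_card' (G := K) s hsm
    have hab : Commute a b := F1.comm_of_nilpotent' hn hr hs hrs (a := a) (b := b)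
      ⟨1, by rw [pow_one, ← ha, pow_orderOf_eq_one]⟩ ⟨1, by rw [pow_one, ← hb, pow_orderOf_eq_one]⟩
    refine (hW _).2 ⟨(a * b : K), ?_⟩
    rw [Subgroup.orderOf_coe, hab.orderOf_mul_eq_mul_orderOf_of_coprime, ha, hb]
    rw [ha, hb]
    exact (Nat.coprime_primes hr hs).2 hrs
  · intro r hr h
    have h1 := hdvd hr h
    rw [card_eq_mul (K := K) (S := S)] at h1
    rcases hr.dvd_mul.1 h1 with h2 | h2
    · exact Or.inl h2
    · exact Or.inr (hr.dvd_mul.1 h2)
  · intro r s t hr hs ht hrs hrt hst h1 h2 h3 n1 n2 n3 hrB hsB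
    have hc : IsCoq G {r, s, t} := by
      refine ⟨?_, ?_, ?_⟩
      · intro x hx
        simp only [Finset.mem_insert, Finset.mem_singleton] at hx
        rcases hx with rfl | rfl | rfl <;> assumption
      · intro x hx
        simp only [Finset.mem_insert, Finset.mem_singleton] at hx
        rcases hx with rfl | rfl | rfl
        exacts [hdvd hr h1, hdvd hs h2, hdvd ht h3]
      · intro x hx y hy hxy
        have m1 : ¬ ∃ g : G, orderOf g = r * s := fun h => n1 ((hW _).2 h)
        have m2 : ¬ ∃ g : G, orderOf g = r * t := fun h => n2 ((hW _).2 h)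
        have m3 : ¬ ∃ g : G, orderOf g = s * t := fun h => n3 ((hW _).2 h)
        have m1' : ¬ ∃ g : G, orderOf g = s * r := by rwa [mul_comm]
        have m2' : ¬ ∃ g : G, orderOf g = t * r := by rwa [mul_comm]
        have m3' : ¬ ∃ g : G, orderOf g = t * s := by rwa [mul_comm]
        simp only [Finset.mem_insert, Finset.mem_singleton] at hx hy
        rcases hx with rfl | rfl | rfl <;> rcases hy with rfl | rfl | rfl <;>
          first | exact absurd rfl hxy | assumption
    have hcard : ({r, s, t} : Finset ℕ).card = 3 := by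
      rw [Finset.card_insert_of_notMem (by simp [hrs, hrt]), Finset.card_insert_of_notMem (by simp [hst]),
        Finset.card_singleton]
    exact hrs (R.coc' _ hc hcard.ge r (by simp) s (by simp) hrB hsB)
  · intro s v w hs hv hw hsm hw2 hvw hvs hws hM
    exact (hW _).2 (F1.kadj hn R.simple hs hw hv hw2 hvw hvs hws hsm hM)
  · rintro s w hs hw hsm hws hw2 ⟨P, hP, hc⟩
    refine (hW _).2 (Cfsg.Agent.H425.KStep.exists_adj K hw hs hws hw2 hsm (P.map S.subtype) (hP.map _) fun h => hc ?_)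
    exact isCyclic_of_injective (P.equivMapOfInjective S.subtype S.subtype_injective).toMonoidHom
      (P.equivMapOfInjective S.subtype S.subtype_injective).injective
  · intro r v x hr hri hF hx hrx hxc hxS
    exact hquot (hF.adj R.cent hr (by rw [← Subgroup.index]; exact hri) hx hrx hxc hxS)
  · intro r x hr hri hx hrx τ h1 h2 h3
    have hfin := F1.mulAut_finite S
    have : Finite (zpowers τ) := inferInstance
    have hpow : ∀ σ : zpowers τ, ∃ k : ℕ, τ ^ k = σ := by
      rintro ⟨σ, hσ⟩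
      rw [← mem_powers_iff_mem_zpowers] at hσ
      exact Submonoid.mem_powers_iff _ _ |>.1 hσ
    refine hquot (F1.adj_of_field R.cent hr (by rw [← Subgroup.index]; exact hri) (zpowers τ).subtype ?_ ?_ hx hrx ?_)
    · intro σ _ hin
      obtain ⟨k, hk⟩ := hpow σ
      have h4 : τ ^ k ∈ Cfsg.Inn S := by rw [hk]; exact hin
      exact Subtype.ext (by rw [← hk, h1 k h4]; rfl)
    · intro k hk
      rw [Nat.card_zpowers]
      exact h2 k hk
    · intro σ hσ
      obtain ⟨k, hk⟩ := hpow σ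
      obtain ⟨g, hg, hg'⟩ := h3 k (by rw [hk, Subgroup.orderOf_coe, hσ])
      exact ⟨g, hg, by rw [hk] at hg'; exact hg'⟩
  · intro r x hr hx hri hrx hxS hc
    have := Fact.mk hx
    obtain ⟨P⟩ : Nonempty (Sylow x S) := inferInstance
    have hP : Nat.card P % r ≠ 1 := by rw [Sylow.card_eq_multiplicity]; exact hc
    exact hquot (Cfsg.Agent.H160.NC.exists_of_adj
      (Cfsg.Agent.H160.NC.adj_of_count S P hr hrx (by rw [← Subgroup.index]; exact hri) hP))
  · intro n hn' hc
    exact order_of_coprime ((hW n).1 hn') hc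
  · intro n hn' r hr hrn h1 h2
    exact exists_factor ((hW n).1 hn') hr hrn h1 h2

/-- **`Good` from the reduction.** -/
theorem good_of_red (R : Red G K S) {W : ℕ → Prop} (hW : ∀ n : ℕ, W n ↔ ∃ g : G, orderOf g = n)
    (hA : ¬ Cfsg.Agent.H414.Rad.AltL2 ↥S) : Good W (Nat.card K) S.index := by
  intro r hr hr2 h h2
  have hd : r ∣ Nat.card G := by
    obtain ⟨g, hg⟩ := (hW r).1 h
    rw [← hg]
    exact orderOf_dvd_natCard g
  have h3 := (R.two.resolve_left hA) r hr hr2 hd fun hx => h2 ((hW _).2 hx)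
  exact h3.2

/-- the frame of helper23 -/
theorem frm_of_red (R : Red G K S) (hn : Group.IsNilpotent K) {t : Cfsg.Agent.H426.LieFam.Fam} (ht : P1.Classical t)
    {v f : ℕ} (hv : v.Prime) (hI : Cfsg.Agent.H426.LieFam.Fam.Is v f S t) : F1.Frm G K S t v f where
  nil := hn
  simple := R.simple
  nonab := by
    by_contra hcon
    push Not at hcon
    exact R.nonab ⟨⟨hcon⟩⟩
  cent := R.cent
  cla := ht
  prime := hv
  is := hI

end Cfsg.Agent.R2.Spec.X4
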