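import Cfsg.Agent.R2.Spec.Iface
import Cfsg.Agent.R2.Spec.F1.Fld
import Cfsg.Agent.R2.Spec.F1.KAdj
import Cfsg.Agent.H376.Six.Arith

/-!
# Box X4 of S3435 (`PSp₆(q)`, `Ω₇(q)`, `PΩ₈⁺(q)`, `q` odd): the interface (helper19)

`L` is one of the three groups, `W n` means `n ∈ ω(L) = ω(G)`; `m = |K|`, `K` the solvable radical of `G` (nilpotent),
`S` the simple socle of `G / K`, `i = |G / K : S|`; a prime is GOOD if it does not divide `m * i`.

* `Side q k A k' B` : `{A, B} = {(q³ - 1)/2, (q³ + 1)/2}`, `A` ODD, `k` the primitive part of `A`, `k'` that of `B`;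
* `LW p q k A k' B W` : the facts about `ω(L)`;
* `SX p q k A k' B m i W S` : the facts about `S`;
* `Good W m i` : the odd primes not adjacent to `2` are good (available except for `S = A₇`, `L₂(odd)`);
* a ROW is a theorem `SX p q k A k' B m i W S → Good W m i → Fam.Is v f S t → v ≠ p → False`.
-/

set_option autoImplicit false

namespace Cfsg.Agent.R2.Spec.X4

open Cfsg.Agent.H376.Six (ap am)

universe u v

/-- the two sides: `A` is odd -/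
def Side (q k A k' B : ℕ) : Prop :=
  (q % 4 = 3 ∧ k = ap q ∧ A = (q ^ 3 - 1) / 2 ∧ k' = am q ∧ B = (q ^ 3 + 1) / 2) ∨
  (q % 4 = 1 ∧ k = am q ∧ A = (q ^ 3 + 1) / 2 ∧ k' = ap q ∧ B = (q ^ 3 - 1) / 2)

/-- the facts about the element orders of `L` (`W = ω(L)`) -/
structure LW (p q k A k' B : ℕ) (W : ℕ → Prop) : Prop where
  pp : p.Prime
  p2 : p ≠ 2
  qp : ∃ e : ℕ, q = p ^ e
  q7 : 7 ≤ q
  side : Side q k A k' B
  pos : ∀ n : ℕ, W n → 0 < n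
  dvd : ∀ n d : ℕ, W n → d ∣ n → W d
  /-- the two tori -/
  WA : W A
  WB : W B
  uk : ∀ r : ℕ, r.Prime → r ∣ k → ∀ n : ℕ, W n → r ∣ n → n ∣ A
  uk' : ∀ r : ℕ, r.Prime → r ∣ k' → ∀ n : ℕ, W n → r ∣ n → n ∣ B
  /-- elements of order `p (q² + 1) / 2`; elements of order `y (q² + 1) / 2`, `y` odd dividing `q - 1` or `q + 1` -/
  Wpz : W (p * ((q ^ 2 + 1) / 2))
  Wyz : ∀ y : ℕ, y % 2 = 1 → y ∣ q - 1 ∨ y ∣ q + 1 → W (y * ((q ^ 2 + 1) / 2))
  /-- an order divisible by `p` and by a prime divisor of `(q² + 1) / 2` -/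
  upz : ∀ r : ℕ, r.Prime → r ∣ (q ^ 2 + 1) / 2 → ∀ n : ℕ, W n → r ∣ n → p ∣ n → n ∣ p * (q ^ 2 + 1)
  /-- the exponent, and a bound for the orders -/
  exp : ∀ n : ℕ, W n → n ∣ p ^ 2 * ((q ^ 6 - 1) * (q ^ 2 + 1))
  big : ∀ n : ℕ, W n → 4 * n < q ^ 4

/-- the odd primes not adjacent to `2` are good -/
def Good (W : ℕ → Prop) (m i : ℕ) : Prop :=
  ∀ r : ℕ, r.Prime → r ≠ 2 → W r → ¬ W (2 * r) → ¬ r ∣ m ∧ ¬ r ∣ i

/-- the facts about the simple section `S`; `m = |K|`, `i = |G / K : S|` -/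
structure SX (p q k A k' B m i : ℕ) (W : ℕ → Prop) (S : Type u) [Group S] : Prop where
  lw : LW p q k A k' B W
  fin : Finite S
  simple : IsSimpleGroup S
  nonab : ¬ IsMulCommutative S
  out : i ∣ Nat.card (Cfsg.Out S)
  WS : ∀ x : S, W (orderOf x)
  Wm : ∀ r : ℕ, r.Prime → r ∣ m → W r
  /-- `K` is nilpotent -/
  nil : ∀ r s : ℕ, r.Prime → s.Prime → r ≠ s → r ∣ m → s ∣ m → W (r * s)
  cov : ∀ r : ℕ, r.Prime → W r → r ∣ Nat.card S ∨ r ∣ m ∨ r ∣ i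
  /-- S3656 : of three pairwise nonadjacent primes at most one is bad -/
  one : ∀ r s t : ℕ, r.Prime → s.Prime → t.Prime → r ≠ s → r ≠ t → s ≠ t → W r → W s → W t → ¬ W (r * s) →
    ¬ W (r * t) → ¬ W (s * t) → r ∣ m * i → ¬ s ∣ m * i
  /-- the primes of the radical are adjacent to the moving primes of `S` -/
  kadj : ∀ s v w : ℕ, s.Prime → v.Prime → w.Prime → s ∣ m → w ≠ 2 → v ≠ w → v ≠ s → w ≠ s → F1.MovW S v w → W (w * s)
  /-- the primes of the radical are adjacent to the odd primes `w` for which `S` has a noncyclic `w`-subgroup -/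
  ncyc : ∀ s w : ℕ, s.Prime → w.Prime → s ∣ m → w ≠ s → w ≠ 2 → (∃ P : Subgroup S, IsPGroup w P ∧ ¬ IsCyclic P) →
    W (w * s)
  /-- field automorphisms -/
  fld : ∀ r v x : ℕ, r.Prime → r ∣ i → F1.FldDat v r S → x.Prime → r ≠ x → (x = v ∨ 5 ≤ x ∧ x % r ≠ 1) →
    x ∣ Nat.card S → W (r * x)
  /-- field automorphisms, general form -/
  fldg : ∀ r x : ℕ, r.Prime → r ∣ i → x.Prime → r ≠ x → ∀ τ : MulAut S, (∀ k : ℕ, τ ^ k ∈ Cfsg.Inn S → τ ^ k = 1) →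
    (∀ k : ℕ, r ^ k ∣ Nat.card (Cfsg.Out S) → r ^ k ∣ orderOf τ) →
    (∀ k : ℕ, orderOf (τ ^ k) = r → ∃ g : S, orderOf g = x ∧ (τ ^ k) g = g) → W (r * x)
  /-- the count of the elements of a Sylow subgroup -/
  cnt : ∀ r x : ℕ, r.Prime → x.Prime → r ∣ i → r ≠ x → x ∣ Nat.card S →
    x ^ (Nat.card S).factorization x % r ≠ 1 → W (r * x)
  /-- element orders prime to `m i` -/
  mem : ∀ n : ℕ, W n → n.Coprime (m * i) → ∃ x : S, orderOf x = n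
  /-- element orders divisible by a good prime -/
  ex : ∀ n : ℕ, W n → ∀ r : ℕ, r.Prime → r ∣ n → ¬ r ∣ m → ¬ r ∣ i → ∃ h N c : ℕ, n = h * N * c ∧ h ∣ i ∧
    (∃ x : S, orderOf x = N) ∧ r ∣ N ∧ ∀ s : ℕ, s.Prime → s ∣ c → s ∣ m

end Cfsg.Agent.R2.Spec.X4
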