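import Cfsg.Agent.R2.Spec.X4.Base

/-!
# Box X4 of S3435: the interface `LW` from lists of element orders (helper19)

* `UG` : the common list; `lw_of_list` : `LW` from `UG` and the existence of some element orders;
* `UC`, `UB`, `UD` : the lists for `PSp₆(q)`, `Ω₇(q)`, `PΩ₈⁺(q)`.
-/

set_option autoImplicit false

namespace Cfsg.Agent.R2.Spec.X4

open Cfsg.Agent.H376.Six

/-- the common list -/
def UG (p q n : ℕ) : Prop :=
  n ∣ (q ^ 3 - 1) / 2 ∨ n ∣ (q ^ 3 + 1) / 2 ∨ n ∣ (q ^ 4 - 1) / 4 ∨ n ∣ p * (q ^ 2 + 1) ∨ n ∣ p * (q ^ 2 - 1) ∨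
    (p ≤ 5 ∧ n ∣ p ^ 2 * (q ^ 2 - 1))

/-- the list for `PSp₆(q)` -/
def UC (p q n : ℕ) : Prop :=
  n ∣ (q ^ 3 - 1) / 2 ∨ n ∣ (q ^ 3 + 1) / 2 ∨ n ∣ (q ^ 2 + 1) / 2 * (q - 1) ∨ n ∣ (q ^ 2 + 1) / 2 * (q + 1) ∨
    n ∣ p * (q ^ 2 + 1) ∨ n ∣ p * (q ^ 2 - 1) ∨ (p ≤ 5 ∧ n ∣ p ^ 2 * (q ^ 2 - 1))

/-- the list for `Ω₇(q)` -/
def UB (p q n : ℕ) : Prop :=
  n ∣ (q ^ 3 - 1) / 2 ∨ n ∣ (q ^ 3 + 1) / 2 ∨ n ∣ (q ^ 2 + 1) / 2 * (q - 1) ∨ n ∣ (q ^ 2 + 1) / 2 * (q + 1) ∨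
    n ∣ p * ((q ^ 2 + 1) / 2) ∨ n ∣ p * (q ^ 2 - 1) ∨ (p ≤ 5 ∧ n ∣ p ^ 2 * (q ^ 2 - 1))

/-- the list for `PΩ₈⁺(q)` -/
def UD (p q n : ℕ) : Prop :=
  n ∣ (q ^ 3 - 1) / 2 ∨ n ∣ (q ^ 3 + 1) / 2 ∨ n ∣ (q ^ 4 - 1) / 4 ∨ n ∣ p * ((q ^ 2 + 1) / 2) ∨ n ∣ p * (q ^ 2 - 1) ∨
    (p ≤ 5 ∧ n ∣ p ^ 2 * (q ^ 2 - 1))

/-- arithmetic of an odd `q` -/
theorem odd_arith {q : ℕ} (ho : q % 2 = 1) : ∃ a z : ℕ, q = 2 * a + 1 ∧ (q ^ 2 + 1) / 2 = z ∧ q ^ 2 + 1 = 2 * z ∧
    z = 2 * (a * (a + 1)) + 1 ∧ q ^ 2 - 1 = 4 * (a * (a + 1)) ∧ q ^ 4 - 1 = 8 * (z * (a * (a + 1))) ∧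
    (q ^ 4 - 1) / 4 = 2 * (z * (a * (a + 1))) := by
  refine ⟨q / 2, 2 * (q / 2 * (q / 2 + 1)) + 1, by omega, ?_⟩
  obtain ⟨a, ha⟩ : ∃ a, q / 2 = a := ⟨_, rfl⟩
  have hq : q = 2 * a + 1 := by omega
  rw [ha]
  have e2 : q ^ 2 = 4 * (a * (a + 1)) + 1 := by rw [hq]; ring
  have e4 : q ^ 4 = 8 * ((2 * (a * (a + 1)) + 1) * (a * (a + 1))) + 1 := by
    have : q ^ 4 = (q ^ 2) ^ 2 := by ring
    rw [this, e2]; ring
  refine ⟨by omega, by omega, rfl, by omega, by omega, by omega⟩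

theorem UC.toG {p q n : ℕ} (ho : q % 2 = 1) (h : UC p q n) : UG p q n := by
  obtain ⟨a, z, hq, hz, h1, h2, h3, h4, h5⟩ := odd_arith ho
  rcases h with h | h | h | h | h | h | h
  · exact Or.inl h
  · exact Or.inr (Or.inl h)
  · refine Or.inr (Or.inr (Or.inl (h.trans ?_)))
    rw [h5, hz]
    refine ⟨a + 1, ?_⟩
    have : q - 1 = 2 * a := by omega
    rw [this]; ring
  · refine Or.inr (Or.inr (Or.inl (h.trans ?_)))
    rw [h5, hz]
    refine ⟨a, ?_⟩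
    have : q + 1 = 2 * (a + 1) := by omega
    rw [this]; ring
  · exact Or.inr (Or.inr (Or.inr (Or.inl h)))
  · exact Or.inr (Or.inr (Or.inr (Or.inr (Or.inl h))))
  · exact Or.inr (Or.inr (Or.inr (Or.inr (Or.inr h))))

theorem UB.toC {p q n : ℕ} (ho : q % 2 = 1) (h : UB p q n) : UC p q n := by
  obtain ⟨a, z, hq, hz, h1, h2, h3, h4, h5⟩ := odd_arith ho
  rcases h with h | h | h | h | h | h | h
  · exact Or.inl h
  · exact Or.inr (Or.inl h)
  · exact Or.inr (Or.inr (Or.inl h))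
  · exact Or.inr (Or.inr (Or.inr (Or.inl h)))
  · refine Or.inr (Or.inr (Or.inr (Or.inr (Or.inl (h.trans ?_)))))
    rw [hz, h1]
    exact ⟨2, by ring⟩
  · exact Or.inr (Or.inr (Or.inr (Or.inr (Or.inr (Or.inl h)))))
  · exact Or.inr (Or.inr (Or.inr (Or.inr (Or.inr (Or.inr h)))))

theorem UD.toG {p q n : ℕ} (ho : q % 2 = 1) (h : UD p q n) : UG p q n := by
  obtain ⟨a, z, hq, hz, h1, h2, h3, h4, h5⟩ := odd_arith ho
  rcases h with h | h | h | h | h | h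
  · exact Or.inl h
  · exact Or.inr (Or.inl h)
  · exact Or.inr (Or.inr (Or.inl h))
  · refine Or.inr (Or.inr (Or.inr (Or.inl (h.trans ?_))))
    rw [hz, h1]
    exact ⟨2, by ring⟩
  · exact Or.inr (Or.inr (Or.inr (Or.inr (Or.inl h))))
  · exact Or.inr (Or.inr (Or.inr (Or.inr (Or.inr h))))

section

variable {p q : ℕ} {W : ℕ → Prop}

theorem cube_sub_dvd (q : ℕ) : (q ^ 3 - 1) * (q ^ 3 + 1) = q ^ 6 - 1 := by
  have := Nat.sq_sub_sq (q ^ 3) 1
  rw [one_pow, ← pow_mul] at this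
  rw [mul_comm]
  exact this.symm

theorem sq_sub_dvd_six (q : ℕ) : q ^ 2 - 1 ∣ q ^ 6 - 1 := by
  have := Nat.sub_dvd_pow_sub_pow (q ^ 2) 1 3
  rwa [one_pow, ← pow_mul] at this

/-- **`LW` from a list.** -/
theorem lw_of_list {e : ℕ} (hp : p.Prime) (hp2 : p ≠ 2) (hq : q = p ^ e) (h7 : 7 ≤ q) (hpos : ∀ n, W n → 0 < n)
    (hdvd : ∀ n d : ℕ, W n → d ∣ n → W d) (U : ∀ n, W n → UG p q n) (w1 : W ((q ^ 3 - 1) / 2))
    (w2 : W ((q ^ 3 + 1) / 2)) (w3 : W (p * ((q ^ 2 + 1) / 2)))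
    (w4 : ∀ y : ℕ, y % 2 = 1 → y ∣ q - 1 ∨ y ∣ q + 1 → W (y * ((q ^ 2 + 1) / 2))) :
    ∃ k A k' B, LW p q k A k' B W := by
  have hpo : p % 2 = 1 := hp.eq_two_or_odd.resolve_left hp2
  have ho : q % 2 = 1 := by rw [hq, Nat.pow_mod, hpo, one_pow, Nat.one_mod]
  obtain ⟨a, z, hqa, hz, h1, h2, h3, h4, h5⟩ := odd_arith ho
  have he : 1 ≤ e := by
    rcases Nat.eq_zero_or_pos e with rfl | h
    · rw [pow_zero] at hq; omega
    · exact h
  have hpq : p ∣ q := by rw [hq]; exact dvd_pow_self p (by omega)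
  have hple : p ≤ q := Nat.le_of_dvd (by omega) hpq
  have hp2q : p ≤ 5 → p ^ 2 ≤ q := by
    intro h
    have : 2 ≤ e := by
      by_contra hcon
      have : e = 1 := by omega
      rw [this, pow_one] at hq
      omega
    rw [hq]
    exact Nat.pow_le_pow_right hp.pos this
  have hq2 : 2 ≤ q := by omega
  have hq1 : 1 ≤ q := by omega
  -- the common part
  have key : ∀ k A k' B, Side q k A k' B → W A → W B → LW p q k A k' B W := by
    intro k A k' B hs hA hB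
    have hpA : ¬ p ∣ A ∧ ¬ p ∣ B := by
      have hpc : p ∣ q ^ 3 := hpq.trans (dvd_pow_self q (by norm_num))
      have h3 := hp.one_lt
      constructor
      · intro hd
        rcases hs.two_mul with ⟨-, a, -, -⟩ | ⟨-, a, -, -⟩
        · have h4 : p ∣ 2 * A + 1 := by rw [a]; exact hpc
          exact h3.ne' (Nat.dvd_one.1 ((Nat.dvd_add_right (hd.mul_left 2)).1 h4))
        · have h4 : p ∣ q ^ 3 + 1 := by rw [← a]; exact hd.mul_left 2
          exact h3.ne' (Nat.dvd_one.1 ((Nat.dvd_add_right hpc).1 h4))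
      · intro hd
        rcases hs.two_mul with ⟨-, -, a, -⟩ | ⟨-, -, a, -⟩
        · have h4 : p ∣ q ^ 3 + 1 := by rw [← a]; exact hd.mul_left 2
          exact h3.ne' (Nat.dvd_one.1 ((Nat.dvd_add_right hpc).1 h4))
        · have h4 : p ∣ 2 * B + 1 := by rw [a]; exact hpc
          exact h3.ne' (Nat.dvd_one.1 ((Nat.dvd_add_right (hd.mul_left 2)).1 h4))
    have hAB : ∀ n, (n ∣ (q ^ 3 - 1) / 2 ∨ n ∣ (q ^ 3 + 1) / 2) → n ∣ A ∨ n ∣ B := by
      intro n hn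
      rcases hs with ⟨-, -, rfl, -, rfl⟩ | ⟨-, -, rfl, -, rfl⟩
      · exact hn
      · exact hn.symm
    have hp4 : ¬ p ∣ (q ^ 4 - 1) / 4 := by
      intro hd
      have h6 : p ∣ q ^ 4 - 1 := by rw [h4]; rw [h5] at hd; exact hd.trans ⟨4, by ring⟩
      have h7' : p ∣ q ^ 4 := hpq.trans (dvd_pow_self q (by norm_num))
      have h8 : 1 ≤ q ^ 4 := Nat.one_le_pow _ _ (by omega)
      have h9 := (Nat.dvd_sub h7' h6)
      rw [show q ^ 4 - (q ^ 4 - 1) = 1 by omega] at h9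
      exact hp.one_lt.ne' (Nat.dvd_one.1 h9)
    -- a prime of `k k'`
    have hprime : ∀ r : ℕ, r.Prime → (r ∣ k ∨ r ∣ k') → ∀ n, W n → r ∣ n → n ∣ A ∨ n ∣ B := by
      intro r hr hrk n hn hrn
      obtain ⟨h6, -, h8, h9⟩ := hs.prime hq2 hr hrk
      have hrp : ¬ r ∣ p := fun h => h8 (h.trans hpq)
      have hsq : q ^ 2 + 1 ∣ q ^ 4 - 1 := by rw [h4, h1]; exact ⟨4 * (a * (a + 1)), by ring⟩
      have hsq' : q ^ 2 - 1 ∣ q ^ 4 - 1 := by rw [h4, h3]; exact ⟨2 * z, by ring⟩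
      rcases U n hn with h | h | h | h | h | ⟨-, h⟩
      · exact hAB n (Or.inl h)
      · exact hAB n (Or.inr h)
      · exfalso
        have h10 : r ∣ (q ^ 4 - 1) / 4 := hrn.trans h
        rw [h5] at h10
        apply h9
        rw [h4]
        exact h10.trans ⟨4, by ring⟩
      · exfalso
        rcases hr.dvd_mul.1 (hrn.trans h) with h10 | h10
        · exact hrp h10
        · exact h9 (h10.trans hsq)
      · exfalso
        rcases hr.dvd_mul.1 (hrn.trans h) with h10 | h10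
        · exact hrp h10
        · exact h9 (h10.trans hsq')
      · exfalso
        rcases hr.dvd_mul.1 (hrn.trans h) with h10 | h10
        · exact hrp (hr.dvd_of_dvd_pow h10)
        · exact h9 (h10.trans hsq')
    have hcop := hs.coprime
    refine
      { pp := hp, p2 := hp2, qp := ⟨e, hq⟩, q7 := h7, side := hs, pos := hpos, dvd := hdvd, WA := hA, WB := hB
        uk := ?_, uk' := ?_, Wpz := w3, Wyz := w4, upz := ?_, exp := ?_, big := ?_ }
    · intro r hr hrk n hn hrn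
      refine (hprime r hr (Or.inl hrk) n hn hrn).resolve_right fun h => ?_
      exact Nat.Prime.not_coprime_iff_dvd.2 ⟨r, hr, hrk.trans (hs.kA hq2), hrn.trans h⟩ hcop
    · intro r hr hrk n hn hrn
      refine (hprime r hr (Or.inr hrk) n hn hrn).resolve_left fun h => ?_
      exact Nat.Prime.not_coprime_iff_dvd.2 ⟨r, hr, hrn.trans h, hrk.trans (hs.kB hq2)⟩ hcop
    · intro r hr hrz n hn hrn hpn
      obtain ⟨-, h8, -, -, h9⟩ := hs.z_prime hq2 hr hrz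
      have hrp : ¬ r ∣ p := fun h => h8 (h.trans hpq)
      rcases U n hn with h | h | h | h | h | ⟨-, h⟩
      · exfalso
        rcases hAB n (Or.inl h) with h10 | h10
        · exact hpA.1 (hpn.trans h10)
        · exact hpA.2 (hpn.trans h10)
      · exfalso
        rcases hAB n (Or.inr h) with h10 | h10
        · exact hpA.1 (hpn.trans h10)
        · exact hpA.2 (hpn.trans h10)
      · exact absurd (hpn.trans h) hp4
      · exact h
      · exfalso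
        rcases hr.dvd_mul.1 (hrn.trans h) with h10 | h10
        · exact hrp h10
        · exact h9 h10
      · exfalso
        rcases hr.dvd_mul.1 (hrn.trans h) with h10 | h10
        · exact hrp (hr.dvd_of_dvd_pow h10)
        · exact h9 h10
    · intro n hn
      have c1 := cube_sub_dvd q
      have ev : 2 ∣ q ^ 3 - 1 ∧ 2 ∣ q ^ 3 + 1 := by
        have : q ^ 3 % 2 = 1 := by rw [Nat.pow_mod, ho]
        constructor <;> omega
      rcases U n hn with h | h | h | h | h | ⟨-, h⟩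
      · refine (h.trans (Nat.div_dvd_of_dvd ev.1)).trans ?_
        rw [← c1]
        exact ⟨p ^ 2 * ((q ^ 3 + 1) * (q ^ 2 + 1)), by ring⟩
      · refine (h.trans (Nat.div_dvd_of_dvd ev.2)).trans ?_
        rw [← c1]
        exact ⟨p ^ 2 * ((q ^ 3 - 1) * (q ^ 2 + 1)), by ring⟩
      · have h10 : n ∣ (q ^ 2 - 1) * (q ^ 2 + 1) := by
          refine h.trans ?_
          rw [h5, h3, h1]
          exact ⟨4, by ring⟩
        exact (h10.trans (Nat.mul_dvd_mul_right (sq_sub_dvd_six q) _)).mul_left _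
      · refine h.trans ?_
        exact ⟨p * (q ^ 6 - 1), by ring⟩
      · refine h.trans ((Nat.mul_dvd_mul_left p (sq_sub_dvd_six q)).trans ?_)
        exact ⟨p * (q ^ 2 + 1), by ring⟩
      · refine h.trans ((Nat.mul_dvd_mul_left _ (sq_sub_dvd_six q)).trans ?_)
        exact ⟨q ^ 2 + 1, by ring⟩
    · intro n hn
      have hn0 := hpos n hn
      have h49 : 49 ≤ q ^ 2 := by nlinarith
      have e3 : q ^ 3 = q * q ^ 2 := by ring
      have e4 : q ^ 4 = q * q ^ 3 := by ring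
      have i3 : 343 ≤ q ^ 3 := by nlinarith
      have i4 : 7 * q ^ 3 ≤ q ^ 4 := by rw [e4]; exact Nat.mul_le_mul_right _ h7
      have i2 : 7 * q ^ 2 ≤ q ^ 3 := by rw [e3]; exact Nat.mul_le_mul_right _ h7
      have hpb : p * (q ^ 2 + 1) ≤ q ^ 3 + q := by
        calc p * (q ^ 2 + 1) ≤ q * (q ^ 2 + 1) := Nat.mul_le_mul_right _ hple
          _ = q ^ 3 + q := by ring
      have iq : q ≤ q ^ 2 := by nlinarith
      rcases U n hn with h | h | h | h | h | ⟨h5', h⟩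
      · have := Nat.le_of_dvd (by omega) h
        omega
      · have := Nat.le_of_dvd (by omega) h
        omega
      · have := Nat.le_of_dvd (by omega) h
        omega
      · have := Nat.le_of_dvd (by have := hp.pos; positivity) h
        omega
      · have h10 : p * (q ^ 2 - 1) ≤ p * (q ^ 2 + 1) := Nat.mul_le_mul_left _ (by omega)
        have := Nat.le_of_dvd (Nat.mul_pos hp.pos (by omega)) h
        omega
      · have h10 : p ^ 2 * (q ^ 2 - 1) ≤ q * q ^ 2 := Nat.mul_le_mul (hp2q h5') (by omega)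
        have := Nat.le_of_dvd (Nat.mul_pos (pow_pos hp.pos 2) (by omega)) h
        omega
  have h13 : q % 4 = 1 ∨ q % 4 = 3 := by omega
  rcases h13 with h13 | h13
  · exact ⟨_, _, _, _, key _ _ _ _ (Or.inr ⟨h13, rfl, rfl, rfl, rfl⟩) w2 w1⟩
  · exact ⟨_, _, _, _, key _ _ _ _ (Or.inl ⟨h13, rfl, rfl, rfl, rfl⟩) w1 w2⟩

/-! ### refinements -/

/-- the power of two -/
theorem UG.two {n b : ℕ} (hp : p.Prime) (hp2 : p ≠ 2) (ho : q % 2 = 1) (hq : 2 ≤ q) (h : UG p q n)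
    (hb : ¬ 2 ^ (b + 1) ∣ q ^ 2 - 1) : ¬ 2 ^ (b + 1) ∣ n := by
  obtain ⟨a, z, hqa, hz, h1, h2, h3, h4, h5⟩ := odd_arith ho
  have hpo : p % 2 = 1 := hp.eq_two_or_odd.resolve_left hp2
  have cop : ∀ {x y : ℕ}, x % 2 = 1 → 2 ^ (b + 1) ∣ x * y → 2 ^ (b + 1) ∣ y := by
    intro x y hx hd
    exact (Nat.Coprime.pow_left _ (Nat.coprime_two_left.2 (Nat.odd_iff.2 hx))).dvd_of_dvd_mul_left hd
  have hzo : z % 2 = 1 := by omega
  have b0 : b ≠ 0 := by
    rintro rfl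
    apply hb
    rw [h3]
    exact ⟨2 * (a * (a + 1)), by ring⟩
  intro hd
  rcases h with h | h | h | h | h | ⟨-, h⟩
  · -- `(q³ - 1)/2 = a (q² + q + 1)`
    have e : (q ^ 3 - 1) / 2 = (q ^ 2 + q + 1) * a := by
      have : q ^ 3 = 2 * ((q ^ 2 + q + 1) * a) + 1 := by rw [hqa]; ring
      omega
    rw [e] at h
    apply hb
    rw [h3]
    have h6 := cop (x := q ^ 2 + q + 1) (by omega) (hd.trans h)
    exact h6.trans ⟨4 * (a + 1), by ring⟩
  · have e : (q ^ 3 + 1) / 2 = (q ^ 2 - q + 1) * (a + 1) := by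
      have h6 : q ≤ q ^ 2 := by nlinarith
      have : q ^ 3 + 1 = 2 * ((q ^ 2 - q + 1) * (a + 1)) := by
        zify [h6]
        rw [hqa]
        push_cast
        ring
      omega
    rw [e] at h
    apply hb
    rw [h3]
    have h7 : q ≤ q ^ 2 := by nlinarith
    have h6 := cop (x := q ^ 2 - q + 1) (by omega) (hd.trans h)
    exact h6.trans ⟨4 * a, by ring⟩
  · rw [h5] at h
    apply hb
    rw [h3]
    have h6 : 2 ^ (b + 1) ∣ z * (2 * (a * (a + 1))) := (hd.trans h).trans ⟨1, by ring⟩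
    exact (cop hzo h6).trans ⟨2, by ring⟩
  · rw [h1] at h
    have h6 := cop hpo (hd.trans h)
    have h7 : 2 ^ (b + 1) ∣ z * 2 := by rw [mul_comm]; exact h6
    have h8 := Nat.le_of_dvd (by norm_num) (cop hzo h7)
    have h9 : 2 ^ 2 ≤ 2 ^ (b + 1) := Nat.pow_le_pow_right (by norm_num) (by omega)
    omega
  · exact hb (cop hpo (hd.trans h))
  · have : p ^ 2 % 2 = 1 := by rw [Nat.pow_mod, hpo]
    exact hb (cop this (hd.trans h))

end

end Cfsg.Agent.R2.Spec.X4
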