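import Cfsg.Agent.H951.B6.Split
import Cfsg.Agent.H202.T.UpSp

/-!
# Root multisets of isometries with trivial spinor sign in dimensions 4, 6, 8, any odd `q` (helper4)

Generalises `Cfsg.Agent.H951.B6.six`, `eight` to all odd `q`; `z = (q² + 1) / 2`.

* `rt4`, `rt6`, `rt8`;
* `pow_eq_of_cnt` : powers of `g` from powers of the roots with multiplicities.
-/

set_option autoImplicit false
set_option linter.unusedSectionVars false

namespace Cfsg.Agent.R2.Spec.X4.LO

open Cfsg.Agent.H160.QRoots Cfsg.Agent.H951.B6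

/-! ### Arithmetic -/

theorem arith {q e : ℕ} (he : q = 2 * e + 1) :
    q ^ 2 + 1 = 2 * ((q ^ 2 + 1) / 2) ∧ Odd ((q ^ 2 + 1) / 2) ∧ (q ^ 4 - 1) / 4 * 2 = (q ^ 4 - 1) / 2 ∧
      q ^ 2 + 1 ∣ (q ^ 4 - 1) / 4 ∧ q - 1 ∣ (q ^ 4 - 1) / 4 ∧ q + 1 ∣ (q ^ 4 - 1) / 4 ∧
      q ^ 2 + 1 ∣ (q ^ 2 + 1) / 2 * (q - 1) ∧ q ^ 2 + 1 ∣ (q ^ 2 + 1) / 2 * (q + 1) ∧
      (q ^ 2 + 1) / 2 * (q - 1) ∣ (q ^ 4 - 1) / 4 ∧ (q ^ 2 + 1) / 2 * (q + 1) ∣ (q ^ 4 - 1) / 4 ∧
      (q ^ 4 - 1) / 4 * 4 = q ^ 4 - 1 ∧ 2 ∣ q ^ 2 - 1 := by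
  have h1 : q ^ 2 + 1 = 2 * (2 * e ^ 2 + 2 * e + 1) := by rw [he]; ring
  have hz : (q ^ 2 + 1) / 2 = 2 * e ^ 2 + 2 * e + 1 := by rw [h1, Nat.mul_div_cancel_left _ (by norm_num)]
  have hm : q - 1 = 2 * e := by omega
  have h4 : q ^ 4 - 1 = 4 * (2 * e * (e + 1) * (2 * e ^ 2 + 2 * e + 1)) := by
    have : q ^ 4 = 4 * (2 * e * (e + 1) * (2 * e ^ 2 + 2 * e + 1)) + 1 := by rw [he]; ring
    omega
  have h44 : (q ^ 4 - 1) / 4 = 2 * e * (e + 1) * (2 * e ^ 2 + 2 * e + 1) := by
    rw [h4, Nat.mul_div_cancel_left _ (by norm_num)]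
  refine ⟨?_, ?_, ?_, ?_, ?_, ?_, ?_, ?_, ?_, ?_, ?_, ?_⟩
  · rw [hz, h1]
  · rw [hz]
    exact ⟨e ^ 2 + e, by ring⟩
  · rw [h44, h4]
    omega
  · rw [h44, h1]
    exact ⟨e * (e + 1), by ring⟩
  · rw [h44, hm]
    exact ⟨(e + 1) * (2 * e ^ 2 + 2 * e + 1), by ring⟩
  · rw [h44, he]
    exact ⟨e * (2 * e ^ 2 + 2 * e + 1), by ring⟩
  · rw [hz, hm, h1]
    exact ⟨e, by ring⟩
  · rw [hz, h1, he]
    exact ⟨e + 1, by ring⟩
  · rw [hz, hm, h44]
    exact ⟨e + 1, by ring⟩
  · rw [hz, h44, he]
    exact ⟨e, by ring⟩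
  · rw [h44, h4]
    ring
  · have : q ^ 2 - 1 = 2 * (2 * e ^ 2 + 2 * e) := by omega
    rw [this]
    exact Dvd.intro _ rfl

variable {K : Type*} [Field K] [DecidableEq K] {q : ℕ}

section

variable {R : Multiset K} (hq : Function.Injective (fun x : K => x ^ q)) (hq0 : 0 < q)
include hq hq0

/-- the value of `psi` on a multiset which is an orbit of length four of the second kind -/
theorem pow_z {e : ℕ} (he : q = 2 * e + 1) {μ : K} (h : μ ^ (q ^ 2 + 1) = 1) :
    μ ^ ((q ^ 2 + 1) / 2) = 1 ∨ μ ^ ((q ^ 2 + 1) / 2) = -1 := by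
  have h1 := (arith he).1
  rw [h1, mul_comm] at h
  exact sq_eq_pm h

/-- four elements -/
theorem rt4 (h : Inv q R) (hc : R.card = 4) :
    (∃ μ, IsMin q μ 2 ∧ μ ^ (q ^ 2) = μ⁻¹ ∧ R = (orb q μ 2).val) ∨ Bd R 2 (q ^ 2 - 1) := by
  have hd2 : ∀ x ∈ R, ∀ d, IsMin q x d → d ≤ 2 := fun x hx d hd => by
    have := d_le hq h hd hx
    omega
  rcases small_cases hq hq0 h hd2 with ⟨μ, hμ, hd, h1⟩ | h1
  · left
    obtain ⟨R', h3, h4, h5, h6, h7⟩ := peel hq h hd
    have h8 : 1 ≤ R.count μ := Multiset.one_le_count_iff_mem.2 hμ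
    have h9 : R.count μ = 1 := by omega
    have hR' : R'.card = 0 := by omega
    rw [Multiset.card_eq_zero] at hR'
    rw [h9, one_nsmul, hR', add_zero] at h3
    refine ⟨μ, hd, ?_, h3⟩
    rw [← mul_left_inj' hd.ne0, inv_mul_cancel₀ hd.ne0, ← pow_succ, h1]
  · right
    exact ⟨fun x => by have := cnt_le hq h x; omega, h1⟩

/-- six elements -/
theorem rt6 {e : ℕ} (he : q = 2 * e + 1) (hsub : ∀ x y : K, (x - y) ^ q = x ^ q - y ^ q)
    (h : Inv q R) (hc : R.card = 6) (hpsi : psi R ^ e = 1) :
    Bd R 1 ((q ^ 3 - 1) / 2) ∨ Bd R 1 ((q ^ 3 + 1) / 2) ∨ Bd R 1 ((q ^ 2 + 1) / 2 * (q - 1)) ∨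
      Bd R 1 ((q ^ 2 + 1) / 2 * (q + 1)) ∨ Bd R 3 (q ^ 2 - 1) := by
  obtain ⟨-, -, -, -, -, -, a1, a2, -, -, -, -⟩ := arith he
  by_cases hbig : ∃ μ ∈ R, ∃ d, IsMin q μ d ∧ 3 ≤ d
  · obtain ⟨μ, hμ, d, hd, h3d⟩ := hbig
    have h1 := d_le hq h hd hμ
    obtain rfl : d = 3 := by omega
    obtain ⟨R', h3, h4, h5, h6, h7⟩ := peel hq h hd
    have h8 : 1 ≤ R.count μ := Multiset.one_le_count_iff_mem.2 hμ
    have h9 : R.count μ = 1 := by omega
    have hR' : R'.card = 0 := by omega
    rw [Multiset.card_eq_zero] at hR'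
    rw [h9, one_nsmul, hR', add_zero] at h3
    have hcnt : ∀ x, R.count x ≤ 1 := by
      intro x
      rw [h3]
      exact Multiset.nodup_iff_count_le_one.1 (orb q μ 3).nodup x
    have hps := psi_orb hq hsub he hd
    rw [← h3, hpsi] at hps
    have hall : ∀ N, μ ^ N = 1 → Bd R 1 N := fun N hN => ⟨hcnt, fun x hx => by
      rw [h3] at hx
      exact ex_orb hx hN⟩
    rcases hd.eq with h10 | h10
    · exact Or.inl (hall _ (inv_eq_one.1 (hps.1 h10).symm))
    · exact Or.inr (Or.inl (hall _ (inv_eq_one.1 (hps.2 h10).symm)))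
  · push Not at hbig
    have hd2 : ∀ x ∈ R, ∀ d, IsMin q x d → d ≤ 2 := fun x hx d hd => by
      have := hbig x hx d hd; omega
    right; right
    rcases small_cases hq hq0 h hd2 with ⟨μ, hμ, hd, h1⟩ | h1
    · obtain ⟨R', h3, h4, h5, h6, h7⟩ := peel hq h hd
      have h8 : 1 ≤ R.count μ := Multiset.one_le_count_iff_mem.2 hμ
      have h9 : R.count μ = 1 := by omega
      have hR' : R'.card = 2 := by omega
      have hcnt : ∀ x, R.count x ≤ 1 := by
        intro x
        by_cases hx : x ∈ R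
        · by_cases hxo : x ∈ orb q μ 2
          · rw [count_orb h hxo, h9]
          · rw [← h6 x ((h5 x).2 ⟨hx, hxo⟩)]
            have := cnt_le hq h4 x
            omega
        · rw [Multiset.count_eq_zero_of_notMem hx]; omega
      rcases one hq hq0 h4 hR' with h10 | h10
      · left
        refine ⟨hcnt, fun x hx => ?_⟩
        by_cases hxo : x ∈ orb q μ 2
        · exact pow_dvd (ex_orb hxo h1) a1
        · exact pow_dvd (h10.ex x ((h5 x).2 ⟨hx, hxo⟩)) (Dvd.intro_left _ rfl)
      · right; left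
        refine ⟨hcnt, fun x hx => ?_⟩
        by_cases hxo : x ∈ orb q μ 2
        · exact pow_dvd (ex_orb hxo h1) a2
        · exact pow_dvd (h10.ex x ((h5 x).2 ⟨hx, hxo⟩)) (Dvd.intro_left _ rfl)
    · right; right
      exact ⟨fun x => by have := cnt_le hq h x; omega, h1⟩

/-- eight elements -/
theorem rt8 {e : ℕ} (he : q = 2 * e + 1) (hsub : ∀ x y : K, (x - y) ^ q = x ^ q - y ^ q)
    (h2K : (2 : K) ≠ 0) (h : Inv q R) (hc : R.card = 8) (hphi : phi R ^ e = 1) (hpsi : psi R ^ e = 1) :
    (∃ (N : ℕ) (δ : K), (N = (q ^ 3 - 1) / 2 ∨ N = (q ^ 3 + 1) / 2 ∨ N = (q ^ 4 - 1) / 4) ∧ (δ = 1 ∨ δ = -1) ∧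
      (∀ x, R.count x ≤ 1) ∧ ∀ x ∈ R, x ^ N = δ) ∨
      (∃ δ : K, (δ = 1 ∨ δ = -1) ∧ (∀ x, R.count x ≤ 2) ∧ ∀ x ∈ R, x ^ ((q ^ 2 + 1) / 2) = δ) ∨
      Bd R 4 (q ^ 2 - 1) := by
  have hodd : Odd q := ⟨e, he⟩
  obtain ⟨-, -, q0, q1, q2, q3, -, -, -, -, -, -⟩ := arith he
  have hm1 : (-1 : K) ≠ 1 := by
    intro h1
    apply h2K
    have : (2 : K) = 1 - (-1) := by norm_num
    rw [this, h1, sub_self]
  have hmm : ((-1 : K) ^ (1 * e)) ^ 2 = 1 := by
    rw [← pow_mul, mul_comm, pow_mul]
    norm_num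
  by_cases hbig : ∃ μ ∈ R, ∃ d, IsMin q μ d ∧ 4 ≤ d
  · left
    obtain ⟨μ, hμ, d, hd, h3d⟩ := hbig
    have h1 := d_le hq h hd hμ
    obtain rfl : d = 4 := by omega
    obtain ⟨R', h3, h4, h5, h6, h7⟩ := peel hq h hd
    have h8 : 1 ≤ R.count μ := Multiset.one_le_count_iff_mem.2 hμ
    have h9 : R.count μ = 1 := by omega
    have hR' : R'.card = 0 := by omega
    rw [Multiset.card_eq_zero] at hR'
    rw [h9, one_nsmul, hR', add_zero] at h3
    have hcnt : ∀ x, R.count x ≤ 1 := by
      intro x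
      rw [h3]
      exact Multiset.nodup_iff_count_le_one.1 (orb q μ 4).nodup x
    have hps := psi_orb hq hsub he hd
    rw [← h3, hpsi] at hps
    rcases hd.eq with h10 | h10
    · have h11 := inv_eq_one.1 (hps.1 h10).symm
      rw [← q0] at h11
      refine ⟨(q ^ 4 - 1) / 4, μ ^ ((q ^ 4 - 1) / 4), Or.inr (Or.inr rfl), sq_eq_pm h11, hcnt, fun x hx => ?_⟩
      rw [h3] at hx
      exact orb_pow hodd hx (sq_eq_pm h11) rfl
    · exfalso
      have h11 := (phi_orb hq hsub he hd).2 h10
      rw [← h3, hphi] at h11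
      apply hm1
      have h12 : (-1 : K) ^ (4 * e) = 1 := by rw [pow_mul]; norm_num
      rw [h12, one_mul] at h11
      exact h11.symm
  · push Not at hbig
    by_cases hbig3 : ∃ μ ∈ R, ∃ d, IsMin q μ d ∧ 3 ≤ d
    · left
      obtain ⟨μ, hμ, d, hd, h3d⟩ := hbig3
      have h1 := hbig μ hμ d hd
      obtain rfl : d = 3 := by omega
      obtain ⟨R', h3, h4, h5, h6, h7⟩ := peel hq h hd
      have h8 : 1 ≤ R.count μ := Multiset.one_le_count_iff_mem.2 hμ
      have h9 : R.count μ = 1 := by omega
      have hR' : R'.card = 2 := by omega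
      obtain ⟨ν, hν⟩ := Multiset.card_pos_iff_exists_mem.1 (by omega : 0 < R'.card)
      obtain ⟨d', hd'⟩ := exists_isMin hq h4 hν
      have h10 := d_le hq h4 hd' hν
      have h11 := hd'.pos
      obtain rfl : d' = 1 := by omega
      obtain ⟨R'', k3, k4, k5, k6, k7⟩ := peel hq h4 hd'
      have k8 : 1 ≤ R'.count ν := Multiset.one_le_count_iff_mem.2 hν
      have k9 : R'.count ν = 1 := by omega
      have hR'' : R''.card = 0 := by omega
      rw [Multiset.card_eq_zero] at hR''
      rw [k9, one_nsmul, hR'', add_zero] at k3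
      rw [h9, one_nsmul] at h3
      have hphi2 : phi (orb q μ 3).val ^ e * phi (orb q ν 1).val ^ e = 1 := by
        rw [← mul_pow, ← phi_add, ← k3, ← h3, hphi]
      have hpsi2 : psi (orb q μ 3).val ^ e * psi (orb q ν 1).val ^ e = 1 := by
        rw [← mul_pow, ← psi_add, ← k3, ← h3, hpsi]
      have hcnt : ∀ x, R.count x ≤ 1 := by
        intro x
        by_cases hx : x ∈ R
        · by_cases hxo : x ∈ orb q μ 3
          · rw [count_orb h hxo, h9]
          · rw [← h6 x ((h5 x).2 ⟨hx, hxo⟩)]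
            have := cnt_le hq h4 x
            omega
        · rw [Multiset.count_eq_zero_of_notMem hx]; omega
      have hsplit : ∀ x ∈ R, x ∈ orb q μ 3 ∨ x ∈ orb q ν 1 := by
        intro x hx
        rw [h3, Multiset.mem_add] at hx
        rcases hx with hx | hx
        · exact Or.inl hx
        · rw [k3] at hx
          exact Or.inr hx
      have e1 := phi_orb hq hsub he hd
      have e2 := phi_orb hq hsub he hd'
      have p1 := psi_orb hq hsub he hd
      have p2 := psi_orb hq hsub he hd'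
      have hs : (-1 : K) ^ (3 * e) * (-1) ^ (1 * e) = 1 := by
        rw [← pow_add, ← add_mul, pow_mul]; norm_num
      obtain ⟨c3, o3, c4, o4⟩ := cube_half he
      have key : ∀ N M s : ℕ, N = M * s → Odd s → ν ^ (M * 2) = 1 → (μ ^ N)⁻¹ * (ν ^ M)⁻¹ = 1 →
          ∃ δ : K, (δ = 1 ∨ δ = -1) ∧ (∀ x, R.count x ≤ 1) ∧ ∀ x ∈ R, x ^ N = δ := by
        intro N M s hN hs' hν2 hprod
        have hpm := sq_eq_pm hν2
        have hinv : (ν ^ M)⁻¹ = ν ^ M := by
          rcases hpm with h | h <;> rw [h] <;> norm_num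
        have hνN : ν ^ N = ν ^ M := by
          rw [hN, pow_mul]
          rcases hpm with h | h
          · rw [h, one_pow]
          · rw [h, hs'.neg_one_pow]
        have hμN : μ ^ N = ν ^ M := by
          have h12 : ν ^ M * ν ^ M = 1 := by
            rcases hpm with h | h <;> rw [h] <;> norm_num
          rw [hinv] at hprod
          have h14 : (μ ^ N)⁻¹ = ν ^ M := by
            calc (μ ^ N)⁻¹ = (μ ^ N)⁻¹ * (ν ^ M * ν ^ M) := by rw [h12, mul_one]
              _ = ((μ ^ N)⁻¹ * ν ^ M) * ν ^ M := by rw [mul_assoc]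
              _ = ν ^ M := by rw [hprod, one_mul]
          rw [← inv_inv (μ ^ N), h14, hinv]
        refine ⟨ν ^ M, hpm, hcnt, fun x hx => ?_⟩
        rcases hsplit x hx with hx' | hx'
        · exact orb_pow hodd hx' hpm hμN
        · exact orb_pow hodd hx' hpm hνN
      rcases hd.eq with c1 | c1
      · rcases hd'.eq with c2 | c2
        · rw [p1.1 c1, p2.1 c2] at hpsi2
          have h12 : (q ^ 1 - 1) / 2 = e := by rw [pow_one]; omega
          rw [h12] at hpsi2
          obtain ⟨δ, h13, h14, h15⟩ := key _ e _ c3 o3 (by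
            have h16 := pow_sub_of_eq hd'.ne0 (pow_pos hq0 1) c2
            rwa [show q ^ 1 - 1 = e * 2 by rw [pow_one]; omega] at h16) hpsi2
          exact ⟨_, δ, Or.inl rfl, h13, h14, h15⟩
        · exfalso
          rw [e1.1 c1, e2.2 c2, ← mul_assoc, hs, one_mul] at hphi2
          exact hm1 hphi2
      · rcases hd'.eq with c2 | c2
        · exfalso
          rw [e1.2 c1, e2.1 c2, mul_assoc, mul_comm (-1 : K), ← mul_assoc, hs, one_mul] at hphi2
          exact hm1 hphi2
        · rw [p1.2 c1, p2.2 c2] at hpsi2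
          have h12 : (q ^ 1 + 1) / 2 = e + 1 := by rw [pow_one]; omega
          rw [h12] at hpsi2
          obtain ⟨δ, h13, h14, h15⟩ := key _ (e + 1) _ c4 o4 (by
            have h16 := pow_add_of_eq hd'.ne0 c2
            rwa [show q ^ 1 + 1 = (e + 1) * 2 by rw [pow_one]; omega] at h16) hpsi2
          exact ⟨_, δ, Or.inr (Or.inl rfl), h13, h14, h15⟩
    · push Not at hbig3
      have hd2 : ∀ x ∈ R, ∀ d, IsMin q x d → d ≤ 2 := fun x hx d hd => by
        have := hbig3 x hx d hd; omega
      rcases small_cases hq hq0 h hd2 with ⟨μ, hμ, hd, h1⟩ | h1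
      · have hμi : μ ^ (q ^ 2) = μ⁻¹ := by
          rw [← mul_left_inj' hd.ne0, inv_mul_cancel₀ hd.ne0, ← pow_succ, h1]
        have e1 := (phi_orb hq hsub he hd).2 hμi
        obtain ⟨R', h3, h4, h5, h6, h7⟩ := peel hq h hd
        have h8 : 1 ≤ R.count μ := Multiset.one_le_count_iff_mem.2 hμ
        by_cases h9 : R.count μ = 1
        · left
          have h12 : R'.card = 4 := by omega
          rw [h9, one_nsmul] at h3
          obtain ⟨ν, hν⟩ := Multiset.card_pos_iff_exists_mem.1 (by omega : 0 < R'.card)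
          obtain ⟨d', hd'⟩ := exists_isMin hq h4 hν
          have h10 := dm_le hq h4 hd'
          have k8 : 1 ≤ R'.count ν := Multiset.one_le_count_iff_mem.2 hν
          have h11 := hd'.pos
          have e3 := phi_orb hq hsub he hd'
          obtain ⟨R'', k3, k4, k5, k6, k7⟩ := peel hq h4 hd'
          have hd'2 : d' = 1 ∨ d' = 2 := by
            have : d' ≤ 2 := by nlinarith
            omega
          have hphiR : phi (orb q μ 2).val ^ e * phi R' ^ e = 1 := by
            rw [← mul_pow, ← phi_add, ← h3, hphi]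
          rw [e1, show (-1 : K) ^ (2 * e) = 1 by rw [pow_mul]; norm_num, one_mul] at hphiR
          rcases hd'2 with rfl | rfl
          · -- `ν ^ q = ν ^ ±1`
            have k9 : R'.count ν = 1 ∨ R'.count ν = 2 := by omega
            rcases k9 with k9 | k9
            · -- simple
              have hR'' : R''.card = 2 := by omega
              refine ⟨(q ^ 4 - 1) / 4, 1, Or.inr (Or.inr rfl), Or.inl rfl, ?_, ?_⟩
              · intro x
                by_cases hx : x ∈ R
                · by_cases hxo : x ∈ orb q μ 2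
                  · rw [count_orb h hxo, h9]
                  · have hx' := (h5 x).2 ⟨hx, hxo⟩
                    rw [← h6 x hx']
                    by_cases hxo' : x ∈ orb q ν 1
                    · rw [count_orb h4 hxo', k9]
                    · rw [← k6 x ((k5 x).2 ⟨hx', hxo'⟩)]
                      have := cnt_le hq k4 x
                      omega
                · rw [Multiset.count_eq_zero_of_notMem hx]; omega
              · intro x hx
                by_cases hxo : x ∈ orb q μ 2
                · exact pow_dvd (ex_orb hxo h1) q1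
                · have hx' := (h5 x).2 ⟨hx, hxo⟩
                  by_cases hxo' : x ∈ orb q ν 1
                  · rcases hd'.pow hq0 with h13 | h13
                    · rw [_root_.pow_one] at h13
                      exact pow_dvd (ex_orb hxo' h13) q2
                    · rw [_root_.pow_one] at h13
                      exact pow_dvd (ex_orb hxo' h13) q3
                  · have hx'' := (k5 x).2 ⟨hx', hxo'⟩
                    rcases one hq hq0 k4 hR'' with h13 | h13
                    · exact pow_dvd (h13.ex x hx'') q2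
                    · exact pow_dvd (h13.ex x hx'') q3
            · -- a double pair
              exfalso
              have hR'' : R''.card = 0 := by omega
              rw [Multiset.card_eq_zero] at hR''
              rw [hR'', add_zero, k9] at k3
              have e4 : phi R' ^ e = 1 := by
                rw [k3, phi_nsmul, ← pow_mul, mul_comm 2 e, pow_mul]
                rcases hd'.eq with c2 | c2
                · rw [e3.1 c2, hmm]
                · rw [e3.2 c2, mul_pow, hmm]
                  norm_num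
              rw [e4, mul_one] at hphiR
              exact hm1 hphiR
          · -- orbit of length four
            have k9 : R'.count ν = 1 := by omega
            have hR'' : R''.card = 0 := by omega
            rw [Multiset.card_eq_zero] at hR''
            rw [hR'', add_zero, k9, one_nsmul] at k3
            rcases hd'.eq with c2 | c2
            · exfalso
              rw [k3, e3.1 c2, show (-1 : K) ^ (2 * e) = 1 by rw [pow_mul]; norm_num, mul_one] at hphiR
              exact hm1 hphiR
            · refine ⟨(q ^ 4 - 1) / 4, 1, Or.inr (Or.inr rfl), Or.inl rfl, fun x => ?_, fun x hx => ?_⟩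
              · by_cases hx : x ∈ R
                · by_cases hxo : x ∈ orb q μ 2
                  · rw [count_orb h hxo, h9]
                  · have hx' := (h5 x).2 ⟨hx, hxo⟩
                    rw [← h6 x hx']
                    have hx'' := hx'
                    rw [k3] at hx''
                    rw [count_orb h4 hx'', k9]
                · rw [Multiset.count_eq_zero_of_notMem hx]; omega
              · by_cases hxo : x ∈ orb q μ 2
                · exact pow_dvd (ex_orb hxo h1) q1
                · have hx' := (h5 x).2 ⟨hx, hxo⟩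
                  rw [k3] at hx'
                  exact pow_dvd (ex_orb hx' (pow_add_of_eq hd'.ne0 c2)) q1
        · right; left
          have h10 : R.count μ = 2 := by omega
          rw [h10] at h7
          have hR' : R'.card = 0 := by omega
          rw [Multiset.card_eq_zero] at hR'
          have hmem : ∀ x ∈ R, x ∈ orb q μ 2 := by
            intro x hx
            by_contra hno
            have := (h5 x).2 ⟨hx, hno⟩
            rw [hR'] at this
            exact Multiset.notMem_zero x this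
          have hpm := pow_z hq hq0 he h1
          refine ⟨μ ^ ((q ^ 2 + 1) / 2), hpm, fun x => ?_, fun x hx => orb_pow hodd (hmem x hx) hpm rfl⟩
          by_cases hx : x ∈ R
          · rw [count_orb h (hmem x hx), h10]
          · rw [Multiset.count_eq_zero_of_notMem hx]; omega
      · right; right
        exact ⟨fun x => by have := cnt_le hq h x; omega, h1⟩

end

section Lin

open Module Polynomial
open Cfsg.Agent.H160.QChar

variable {F V : Type*} [Field F] [AddCommGroup V] [Module F V] [FiniteDimensional F V]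

open Classical in
/-- roots with the same `N`-th power `a`, with multiplicities -/
theorem pow_eq_of_cnt {p : ℕ} [hp : Fact p.Prime] [CharP F p] {g : V →ₗ[F] V} {N M c : ℕ} (hN : 0 < N) (a : F)
    (hcnt : ∀ x, (rts g).count x ≤ M) (h : ∀ x ∈ rts g, x ^ N = algebraMap F (AlgebraicClosure F) a)
    (hc : M ≤ p ^ c) : g ^ (N * p ^ c) = algebraMap F (Module.End F V) (a ^ (p ^ c)) := by
  have : CharP (AlgebraicClosure F) p := charP_of_injective_algebraMap (algebraMap F (AlgebraicClosure F)).injective p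
  have h1 : g.charpoly ∣ X ^ (N * p ^ c) - C (a ^ (p ^ c)) := by
    rw [← Polynomial.map_dvd_map' (algebraMap F (AlgebraicClosure F)), eq_prod, Polynomial.map_sub,
      Polynomial.map_pow, Polynomial.map_X, Polynomial.map_C]
    have h2 : (X ^ (N * p ^ c) - C (algebraMap F (AlgebraicClosure F) (a ^ (p ^ c))) : (AlgebraicClosure F)[X]) =
        (X ^ N - C (algebraMap F (AlgebraicClosure F) a)) ^ (p ^ c) := by
      rw [sub_pow_char_pow, ← pow_mul, map_pow, C_pow]
    rw [h2]
    have hne : (X ^ N - C (algebraMap F (AlgebraicClosure F) a) : (AlgebraicClosure F)[X]) ≠ 0 :=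
      X_pow_sub_C_ne_zero hN _
    rw [Multiset.prod_X_sub_C_dvd_iff_le_roots (pow_ne_zero _ hne), roots_pow, Multiset.le_iff_count]
    intro x
    rw [Multiset.count_nsmul]
    by_cases hx : x ∈ rts g
    · have h3 : 1 ≤ (X ^ N - C (algebraMap F (AlgebraicClosure F) a) : (AlgebraicClosure F)[X]).roots.count x := by
        rw [Multiset.one_le_count_iff_mem, mem_roots hne, IsRoot.def]
        simp [h x hx]
      calc (rts g).count x ≤ M := hcnt x
        _ ≤ p ^ c * 1 := by rw [mul_one]; exact hc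
        _ ≤ _ := Nat.mul_le_mul_left _ h3
    · rw [Multiset.count_eq_zero_of_notMem hx]
      exact Nat.zero_le _
  obtain ⟨w, hw⟩ := h1
  have h2 := congrArg (aeval g) hw
  rw [map_mul, LinearMap.aeval_self_charpoly, zero_mul, map_sub, map_pow, aeval_X, aeval_C, sub_eq_zero] at h2
  exact h2

end Lin

end Cfsg.Agent.R2.Spec.X4.LO
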