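import Cfsg.Agent.R2.Spec.X4.LList
import Cfsg.Agent.H411.Six.UpSp6

/-!
# Box X4 of S3435: upper bounds for the element orders of `PSp₆(q)`, `q` odd (helper19)
-/

set_option autoImplicit false
set_option linter.unusedSectionVars false

namespace Cfsg.Agent.R2.Spec.X4

open Module Polynomial
open Cfsg.Agent.H160.QRoots Cfsg.Agent.H160.QChar Cfsg.Agent.H202.T Cfsg.Agent.H411.Six

section Enum

variable {K : Type*} [Field K] [DecidableEq K] {q : ℕ}

variable {R : Multiset K} (hq : Function.Injective (fun x : K => x ^ q)) (hq0 : 0 < q)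
include hq hq0

/-- **Enumeration.** -/
theorem enumC (hqo : Odd q) (h : Inv0 q R) (hc : R.card = 6) :
    (∃ μ, IsMin q μ 3 ∧ R = (orb q μ 3).val) ∨ Bd R 1 ((q ^ 2 + 1) * ((q - 1) / 2)) ∨
      Bd R 1 ((q ^ 2 + 1) * ((q + 1) / 2)) ∨ Bd R 2 (q ^ 2 + 1) ∨ Bd R 6 (q ^ 2 - 1) := by
  have hI := Inv0.filter hq hq0 h
  have hle : (R.filter fun x => x ≠ x⁻¹).card ≤ R.card := Multiset.card_le_card (Multiset.filter_le _ _)
  have hev := even_card hq hq0 _ _ rfl hI
  obtain ⟨n, hn⟩ : ∃ n, (R.filter fun x => x ≠ x⁻¹).card = n := ⟨_, rfl⟩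
  rw [hn, hc] at hle
  rw [hn] at hev
  have hcases : n = 0 ∨ n = 2 ∨ n = 4 ∨ n = 6 := by
    obtain ⟨k, hk⟩ := hev
    omega
  have ev2 : Even (q ^ 2 + 1) := hqo.pow.add_one
  have ev2' : Even (q ^ 2 - 1) := Nat.Odd.sub_odd hqo.pow odd_one
  have dp2 : q + 1 ∣ q ^ 2 - 1 := add_one_dvd_sq q
  have dm2 : q - 1 ∣ q ^ 2 - 1 := H160.QRoots.sub_one_dvd q 2
  have mono : ∀ {S : Multiset K} {M M' N N' : ℕ}, M ≤ M' → N ∣ N' → Bd S M N → Bd S M' N' := by
    intro S M M' N N' hM hN hB
    exact ⟨fun x => (hB.cnt x).trans hM, fun x hx => pow_dvd (hB.ex x hx) hN⟩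
  have small : ∀ {N : ℕ}, N ∣ q ^ 2 - 1 → ∀ M, M ≤ 6 → Bd (R.filter fun x => x ≠ x⁻¹) M N → Bd R 6 (q ^ 2 - 1) := by
    intro N hN M hM hB
    exact comb (P := 6) h (mono le_rfl hN hB) ev2' hM (by rw [hc]; omega)
  rcases hcases with rfl | rfl | rfl | rfl
  · rw [Multiset.card_eq_zero] at hn
    have hB : Bd (R.filter fun x => x ≠ x⁻¹) 0 2 := by
      rw [hn]
      exact ⟨fun x => by simp, fun x hx => absurd hx (Multiset.notMem_zero x)⟩
    exact Or.inr (Or.inr (Or.inr (Or.inr (small ev2'.two_dvd 0 (by norm_num) hB))))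
  · rcases one hq hq0 hI hn with hB | hB
    · exact Or.inr (Or.inr (Or.inr (Or.inr (small dm2 _ (by norm_num) hB))))
    · exact Or.inr (Or.inr (Or.inr (Or.inr (small dp2 _ (by norm_num) hB))))
  · rcases two hq hq0 hI hn with hB | hB
    · exact Or.inr (Or.inr (Or.inr (Or.inl (comb h hB ev2 (by norm_num) (by rw [hn, hc])))))
    · exact Or.inr (Or.inr (Or.inr (Or.inr (small dvd_rfl _ (by norm_num) hB))))
  · obtain ⟨e, he⟩ := hqo
    rcases three6 hq hq0 hI hn with ⟨μ, hμ, hR⟩ | hB | hB | hB | hB | hB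
    · left
      refine ⟨μ, hμ, ?_⟩
      rw [← hR]
      symm
      apply Multiset.eq_of_le_of_card_le (Multiset.filter_le _ _)
      rw [hn, hc]
    · exact Or.inr (Or.inl (comb h (hB ((q ^ 2 + 1) * ((q - 1) / 2)) (Dvd.intro _ rfl) (dvd_sub_half he))
        (ev2.mul_right _) (by norm_num) (by rw [hn, hc]; norm_num)))
    · exact Or.inr (Or.inr (Or.inl (comb h (hB ((q ^ 2 + 1) * ((q + 1) / 2)) (Dvd.intro _ rfl) (dvd_add_half he))
        (ev2.mul_right _) (by norm_num) (by rw [hn, hc]; norm_num))))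
    · exact Or.inr (Or.inr (Or.inr (Or.inr (small dvd_rfl _ (by norm_num) hB))))
    · exact Or.inr (Or.inr (Or.inr (Or.inr (small dm2 _ (by norm_num) hB))))
    · exact Or.inr (Or.inr (Or.inr (Or.inr (small dp2 _ (by norm_num) hB))))

end Enum

section

open Matrix

variable {F : Type*} [Field F] [Fintype F]

/-- **Element orders of `PSp₆(q)`, `q` odd.** -/
theorem ub_sp {p : ℕ} [hp : Fact p.Prime] [CharP F p] (hp2 : p ≠ 2) (x : Cfsg.PSp 3 F) :
    UC p (Fintype.card F) (orderOf x) := by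
  classical
  have hchar : CharP (AlgebraicClosure F) p :=
    charP_of_injective_algebraMap (algebraMap F (AlgebraicClosure F)).injective p
  have hodd : Odd (Fintype.card F) := by
    obtain ⟨k, -, hc⟩ := FiniteField.card F p
    rw [hc]
    exact Odd.pow (hp.out.odd_of_ne_two hp2)
  have hp3 : 3 ≤ p := by
    have := hp.out.two_le
    omega
  have hq0 : 0 < Fintype.card F := Fintype.card_pos
  have hq1 : 1 < Fintype.card F := Fintype.one_lt_card
  obtain ⟨a, z, hqa, hz, h1, h2, h3, h4, h5⟩ := odd_arith (Nat.odd_iff.1 hodd)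
  obtain ⟨g, rfl⟩ := QuotientGroup.mk_surjective x
  have hbd : ∀ {M N c : ℕ}, Bd (rts (Matrix.toLin' g.1 : (Fin 3 ⊕ Fin 3 → F) →ₗ[F] (Fin 3 ⊕ Fin 3 → F))) M N →
      M ≤ p ^ c → orderOf (g : Cfsg.PSp 3 F) ∣ N * p ^ c := by
    intro M N c hB hM
    exact orderOf_dvd_of_bd g (fun x => (hB.cnt x).trans hM) hB.ex
  rcases enumC (frob_inj F) hq0 hodd (inv0_sp g) (card_rts_sp g) with ⟨μ, hμ, hR⟩ | hB | hB | hB | hB
  · have key : ∀ N : ℕ, 0 < N → μ ^ (2 * N) = 1 → orderOf (g : Cfsg.PSp 3 F) ∣ N := by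
      intro N hN h1
      have h2 : μ ^ N = 1 ∨ μ ^ N = -1 := by
        have : μ ^ N * μ ^ N = 1 := by rw [← pow_add, ← two_mul, h1]
        exact mul_self_eq_one_iff.1 this
      obtain ⟨a, ha, ha1⟩ : ∃ a : F, (a = 1 ∨ a = -1) ∧ μ ^ N = algebraMap F (AlgebraicClosure F) a := by
        rcases h2 with h2 | h2
        · exact ⟨1, Or.inl rfl, by rw [h2, map_one]⟩
        · exact ⟨-1, Or.inr rfl, by rw [h2, map_neg, map_one]⟩
      have hinv : (algebraMap F (AlgebraicClosure F) a)⁻¹ = algebraMap F (AlgebraicClosure F) a := by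
        rcases ha with rfl | rfl <;> simp
      have hpow : ∀ i : ℕ, (algebraMap F (AlgebraicClosure F) a) ^ (Fintype.card F) ^ i =
          algebraMap F (AlgebraicClosure F) a := by
        intro i
        rcases ha with rfl | rfl
        · simp
        · rw [map_neg, map_one, (hodd.pow).neg_one_pow]
      have h3 := pow_eq_of_simple (g := Matrix.toLin' g.1) hN a (fun x => by
        rw [hR]
        exact Multiset.nodup_iff_count_le_one.1 (orb (Fintype.card F) μ 3).nodup x) (fun x hx => by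
        rw [hR] at hx
        obtain ⟨i, -, rfl | rfl⟩ := mem_orb.1 hx
        · rw [← pow_mul, mul_comm, pow_mul, ha1, hpow]
        · rw [inv_pow, ← pow_mul, mul_comm, pow_mul, ha1, hpow, hinv])
      apply orderOf_psp_dvd
      have h4 := pow_eq_smul g N a h3
      rcases ha with rfl | rfl
      · left; rw [h4, one_smul]
      · right; rw [h4, neg_smul, one_smul]
    have ho3 : Odd (Fintype.card F ^ 3) := hodd.pow
    have h27 : 8 ≤ Fintype.card F ^ 3 := by
      calc 8 = 2 ^ 3 := by norm_num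
        _ ≤ Fintype.card F ^ 3 := Nat.pow_le_pow_left hq1 3
    rcases hμ.pow hq0 with h1 | h1
    · left
      apply key _ (by omega)
      rwa [Nat.mul_div_cancel' (Nat.Odd.sub_odd ho3 odd_one).two_dvd]
    · right; left
      apply key _ (by omega)
      rwa [Nat.mul_div_cancel' ho3.add_one.two_dvd]
  · have := hbd (c := 0) hB (by simp)
    rw [pow_zero, mul_one] at this
    refine Or.inr (Or.inr (Or.inl (this.trans (dvd_of_eq ?_))))
    rw [hz, h1, show (Fintype.card F - 1) / 2 = a by omega, show Fintype.card F - 1 = 2 * a by omega]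
    ring
  · have := hbd (c := 0) hB (by simp)
    rw [pow_zero, mul_one] at this
    refine Or.inr (Or.inr (Or.inr (Or.inl (this.trans (dvd_of_eq ?_)))))
    rw [hz, h1, show (Fintype.card F + 1) / 2 = a + 1 by omega, show Fintype.card F + 1 = 2 * (a + 1) by omega]
    ring
  · have := hbd (c := 1) hB (by rw [pow_one]; omega)
    rw [pow_one, mul_comm] at this
    exact Or.inr (Or.inr (Or.inr (Or.inr (Or.inl this))))
  · by_cases h6 : p ≤ 5
    · have := hbd (c := 2) hB (by nlinarith)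
      rw [mul_comm] at this
      exact Or.inr (Or.inr (Or.inr (Or.inr (Or.inr (Or.inr ⟨h6, this⟩)))))
    · have := hbd (c := 1) hB (by rw [pow_one]; omega)
      rw [pow_one, mul_comm] at this
      exact Or.inr (Or.inr (Or.inr (Or.inr (Or.inr (Or.inl this)))))

end

end Cfsg.Agent.R2.Spec.X4
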