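import Cfsg.Agent.R2.Spec.X4.Frame
import Cfsg.Agent.H229.T.Nilp
import Cfsg.Agent.H772.Six.PslTwo

/-!
# Box X4 of S3435, own characteristic: common facts (helper19)

`S` of Lie type in characteristic `p`. `r` is a primitive prime divisor of `p ^ (4 e) - 1`, `q = p ^ e`.

* `own_prime` : such a prime;
* `exists_of_fixed` : a fixed point of `x ∈ S` in `Ω₁(Z(O_r(K)))` gives `n ∈ W` divisible by `orderOf x` and `r`;
* `act_inj` : the action of `S` on `Ω₁(Z(O_r(K)))` is faithful if `¬ W (r * s)` for a prime `s` of `|S|`.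
-/

set_option autoImplicit false
set_option linter.unusedSectionVars false

namespace Cfsg.Agent.R2.Spec.X4

open Subgroup
open Cfsg.Agent.H420.QR (Red IsCoq card_eq_mul)
open Cfsg.Agent.H229.T (zt act mem_zt zt_ne_bot exists_commute)

universe u v

theorem LW.own_prime {p q k A k' B : ℕ} {W : ℕ → Prop} (hL : LW p q k A k' B W) : ∃ e r : ℕ, 1 ≤ e ∧ q = p ^ e ∧
    r.Prime ∧ r ≠ 2 ∧ ¬ r ∣ p ∧ r ∣ (q ^ 2 + 1) / 2 ∧ 4 * e < r ∧ ¬ r ∣ p ^ (6 * e) - 1 := by
  obtain ⟨e, he⟩ := hL.qp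
  have h1 : 1 ≤ e := by
    rcases Nat.eq_zero_or_pos e with rfl | h
    · have := hL.q7; rw [he, pow_zero] at this; omega
    · exact h
  obtain ⟨r, hr, hr2, hrp, hd, hlt, h6, -⟩ :=
    Cfsg.Agent.H772.Six.exists_prime (p := p) (m := e) hL.pp h1 (fun h => absurd h hL.p2)
  refine ⟨e, r, h1, he, hr, hr2, hrp, ?_, hlt, h6⟩
  rw [← he] at hd
  rw [← hL.side.z.1] at hd
  rcases hr.dvd_mul.1 hd with h | h
  · exact absurd ((Nat.prime_dvd_prime_iff_eq hr Nat.prime_two).1 h) hr2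
  · exact h

variable {G : Type u} [Group G] [Finite G] {K : Subgroup G} [K.Normal] {S : Subgroup (G ⧸ K)} [S.Normal]
  {W : ℕ → Prop}

/-- a fixed point -/
theorem exists_of_fixed (hW : ∀ n : ℕ, W n ↔ ∃ g : G, orderOf g = n) {r : ℕ} (hr : r.Prime) (x : G ⧸ K)
    (v : zt K r) (hv1 : v ≠ 1) (hv : act K r x v = v) : ∃ n, W n ∧ orderOf x ∣ n ∧ r ∣ n := by
  obtain ⟨g, rfl⟩ := QuotientGroup.mk_surjective x
  have hc : Commute g (v : G) := exists_commute K hv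
  obtain ⟨y, -, hy⟩ := hc.exists_orderOf_eq_lcm
  refine ⟨orderOf y, (hW _).2 ⟨y, rfl⟩, ?_, ?_⟩
  · rw [hy]
    exact (orderOf_map_dvd (QuotientGroup.mk' K) g).trans (Nat.dvd_lcm_left _ _)
  · rw [hy]
    have h1 : orderOf (v : G) = r := by
      have := Fact.mk hr
      exact orderOf_eq_prime v.2.2.2 (fun h => hv1 (Subtype.ext h))
    exact (dvd_of_eq h1.symm).trans (Nat.dvd_lcm_right _ _)

/-- the action is faithful -/
theorem act_inj (R : Red G K S) (hn : Group.IsNilpotent K) (hW : ∀ n : ℕ, W n ↔ ∃ g : G, orderOf g = n) {r s : ℕ}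
    (hr : r.Prime) (hs : s.Prime) (hrs : r ≠ s) (hrK : r ∣ Nat.card K) (hsS : s ∣ Nat.card S)
    (hd : ∀ n d : ℕ, W n → d ∣ n → W d) (h : ¬ W (r * s)) :
    Function.Injective ((act K r).comp S.subtype) := by
  have := R.simple
  have := Fact.mk hs
  rw [← MonoidHom.ker_eq_bot_iff]
  rcases (MonoidHom.normal_ker ((act K r).comp S.subtype)).eq_bot_or_eq_top with h1 | h1
  · exact h1
  · exfalso
    obtain ⟨x, hx⟩ := exists_prime_orderOf_dvd_card' (G := S) s hsS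
    obtain ⟨z, hz, hz1⟩ := zt_ne_bot hn hr hrK
    have h2 : x ∈ MonoidHom.ker ((act K r).comp S.subtype) := by rw [h1]; trivial
    have h3 : act K r (x : G ⧸ K) ⟨z, hz⟩ = ⟨z, hz⟩ := by
      have h4 : act K r (x : G ⧸ K) = 1 := h2
      rw [h4, MulAut.one_apply]
    obtain ⟨n, hn1, hn2, hn3⟩ := exists_of_fixed hW hr (x : G ⧸ K) ⟨z, hz⟩ (fun h => hz1 (congrArg Subtype.val h)) h3
    rw [Subgroup.orderOf_coe, hx] at hn2
    exact h (hd n _ hn1 (((Nat.coprime_primes hr hs).2 hrs).mul_dvd_of_dvd_of_dvd hn3 hn2))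

end Cfsg.Agent.R2.Spec.X4
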