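import Cfsg.Agent.R2.Spec.X4.Own
import Cfsg.Agent.R2.Spec.X4.LList

/-!
# Box X4 of S3435, own characteristic: arithmetic (helper19)
-/

set_option autoImplicit false
set_option linter.unusedSectionVars false

namespace Cfsg.Agent.R2.Spec.X4

open Subgroup
open Cfsg.Agent.H376.Six (ap am ap_spec am_spec ap_dvd_half three_ap ap_ne ap_dvd_int)

universe u

section Arith

variable {p q k A k' B : ℕ} {W : ℕ → Prop}

theorem cls_ap {q w : ℕ} (hq : 2 ≤ q) (hw : w.Prime) (h : w ∣ ap q) : orderOf ((q : ℤ) : ZMod w) = 3 := by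
  have := Fact.mk hw
  have h1 := (ZMod.intCast_zmod_eq_zero_iff_dvd ((q : ℤ) ^ 2 + q + 1) w).2 (ap_dvd_int hq h)
  push_cast at h1
  apply orderOf_eq_prime (p := 3)
  · push_cast
    linear_combination ((q : ZMod w) - 1) * h1
  · intro h2
    push_cast at h2
    rw [h2] at h1
    have h3 : ((3 : ℕ) : ZMod w) = 0 := by push_cast; linear_combination h1
    rw [ZMod.natCast_eq_zero_iff] at h3
    exact (ap_ne hq hw h).2.1 ((Nat.prime_dvd_prime_iff_eq hw Nat.prime_three).1 h3)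

theorem LW.uap (h : LW p q k A k' B W) {w : ℕ} (hw : w.Prime) (hwk : w ∣ ap q) {n : ℕ} (hn : W n) (hwn : w ∣ n) :
    n ∣ (q ^ 3 - 1) / 2 := by
  have hs := h.side
  rcases hs with ⟨-, h1, h2, -, -⟩ | ⟨-, -, -, h1, h2⟩
  · rw [← h2]
    exact h.uk w hw (by rw [h1]; exact hwk) n hn hwn
  · rw [← h2]
    exact h.uk' w hw (by rw [h1]; exact hwk) n hn hwn

theorem LW.exists_ap (h : LW p q k A k' B W) : ∃ w : ℕ, w.Prime ∧ w ∣ ap q ∧ w ≠ 2 ∧ ¬ w ∣ p := by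
  have hq := h.q2
  have h7 := h.q7
  have h1 : ap q ≠ 1 := by
    intro h1
    have := three_ap hq
    rw [h1] at this
    nlinarith
  obtain ⟨w, hw, hd⟩ := Nat.exists_prime_and_dvd h1
  obtain ⟨a, b, c⟩ := ap_ne hq hw hd
  exact ⟨w, hw, hd, a, fun h2 => c (h2.trans h.p_dvd)⟩

/-- a prime `r` such that the order of `p` modulo `r` is `4 e` -/
theorem LW.own_prime_exact (hL : LW p q k A k' B W) : ∃ e r : ℕ, 1 ≤ e ∧ q = p ^ e ∧
    r.Prime ∧ r ≠ 2 ∧ ¬ r ∣ p ∧ r ∣ (q ^ 2 + 1) / 2 ∧ orderOf (p : ZMod r) = 4 * e ∧ orderOf (q : ZMod r) = 4 := by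
  obtain ⟨e, he⟩ := hL.qp
  have h1 : 1 ≤ e := by
    rcases Nat.eq_zero_or_pos e with rfl | h
    · have := hL.q7; rw [he, pow_zero] at this; omega
    · exact h
  obtain ⟨r, hr, ho⟩ := Cfsg.Agent.Lib.Zsigmondy.exists_prime_orderOf (a := p) (n := 4 * e) hL.pp.two_le (by omega)
    (fun h => by omega) (fun h => hL.p2 h.1)
  have := Fact.mk hr
  have hrp : ¬ r ∣ p := by
    intro h
    have h2 : (p : ZMod r) = 0 := (ZMod.natCast_eq_zero_iff _ _).2 h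
    rw [h2] at ho
    have h3 : orderOf (0 : ZMod r) = 0 := by
      rw [orderOf_eq_zero_iff']
      intro n hn
      rw [zero_pow hn.ne']
      exact zero_ne_one
    omega
  have h0 : (p : ZMod r) ≠ 0 := fun h => hrp ((ZMod.natCast_eq_zero_iff _ _).1 h)
  have h4 : 4 * e ∣ r - 1 := by
    rw [← ho]
    exact ZMod.orderOf_dvd_card_sub_one h0
  have hr2 : r ≠ 2 := by
    rintro rfl
    have := Nat.le_of_dvd (by norm_num) h4
    omega
  have hqo : orderOf (q : ZMod r) = 4 := by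
    rw [he, Nat.cast_pow, orderOf_pow_of_dvd (by omega) (by rw [ho]; exact Dvd.intro_left _ rfl), ho,
      Nat.mul_div_cancel _ (by omega)]
  refine ⟨e, r, h1, he, hr, hr2, hrp, ?_, ho, hqo⟩
  have h5 : ((q : ZMod r) ^ 2 - 1) * ((q : ZMod r) ^ 2 + 1) = 0 := by
    have h6 := pow_orderOf_eq_one (q : ZMod r)
    rw [hqo] at h6
    linear_combination h6
  have h6 : (q : ZMod r) ^ 2 + 1 = 0 := by
    refine (mul_eq_zero.1 h5).resolve_left fun h7 => ?_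
    have h8 := orderOf_dvd_of_pow_eq_one (sub_eq_zero.1 h7)
    rw [hqo] at h8
    exact absurd (Nat.le_of_dvd (by norm_num) h8) (by norm_num)
  have h7 : r ∣ q ^ 2 + 1 := by
    rw [← ZMod.natCast_eq_zero_iff]
    push_cast
    exact h6
  rw [← hL.side.z.1] at h7
  exact (hr.dvd_mul.1 h7).resolve_left fun h => hr2 ((Nat.prime_dvd_prime_iff_eq hr Nat.prime_two).1 h)

theorem UB.upz {p q n r : ℕ} (ho : q % 2 = 1) (hp : p.Prime) (hpq : p ∣ q) (hr : r.Prime) (hr2 : r ≠ 2)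
    (hrp : ¬ r ∣ p) (hrz : r ∣ (q ^ 2 + 1) / 2) (h : UB p q n) (hrn : r ∣ n) (hpn : p ∣ n) :
    n ∣ p * ((q ^ 2 + 1) / 2) := by
  obtain ⟨a, z, hqa, hz, h1, h2, h3, h4, h5⟩ := odd_arith ho
  have hr4 : ¬ r ∣ q ^ 2 - 1 := by
    intro h
    have h6 : r ∣ q ^ 2 + 1 := by rw [h1, ← hz]; exact hrz.mul_left 2
    have h7 := (Nat.dvd_sub h6 h)
    have h8 : q ^ 2 + 1 - (q ^ 2 - 1) = 2 := by omega
    rw [h8] at h7
    exact hr2 ((Nat.prime_dvd_prime_iff_eq hr Nat.prime_two).1 h7)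
  have hp1 : ∀ {m : ℕ}, 0 < m → ¬ p ∣ q ^ m - 1 := by
    intro m hm hd
    have h7' : p ∣ q ^ m := hpq.trans (dvd_pow_self q (by omega))
    have h8 : 1 ≤ q ^ m := Nat.one_le_pow _ _ (by omega)
    have h9 := (Nat.dvd_sub h7' hd)
    rw [show q ^ m - (q ^ m - 1) = 1 by omega] at h9
    exact hp.one_lt.ne' (Nat.dvd_one.1 h9)
  have hp3 : ∀ {m : ℕ}, 0 < m → ¬ p ∣ q ^ m + 1 := by
    intro m hm hd
    have h7' : p ∣ q ^ m := hpq.trans (dvd_pow_self q (by omega))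
    exact hp.one_lt.ne' (Nat.dvd_one.1 ((Nat.dvd_add_right h7').1 hd))
  have ev : 2 ∣ q ^ 3 - 1 ∧ 2 ∣ q ^ 3 + 1 := by
    have : q ^ 3 % 2 = 1 := by rw [Nat.pow_mod, ho]
    constructor <;> omega
  rcases h with h | h | h | h | h | h | ⟨-, h⟩
  · exact absurd ((hpn.trans h).trans (Nat.div_dvd_of_dvd ev.1)) (hp1 (by norm_num))
  · exact absurd ((hpn.trans h).trans (Nat.div_dvd_of_dvd ev.2)) (hp3 (by norm_num))
  · exfalso
    rcases hp.dvd_mul.1 (hpn.trans h) with h6 | h6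
    · apply hp3 (m := 2) (by norm_num)
      rw [h1, ← hz]; exact h6.mul_left 2
    · apply hp1 (m := 1) (by norm_num)
      rw [pow_one]; exact h6
  · exfalso
    rcases hp.dvd_mul.1 (hpn.trans h) with h6 | h6
    · apply hp3 (m := 2) (by norm_num)
      rw [h1, ← hz]; exact h6.mul_left 2
    · apply hp3 (m := 1) (by norm_num)
      rw [pow_one]; exact h6
  · exact h
  · exfalso
    rcases hr.dvd_mul.1 (hrn.trans h) with h6 | h6
    · exact hrp h6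
    · exact hr4 h6
  · exfalso
    rcases hr.dvd_mul.1 (hrn.trans h) with h6 | h6
    · exact hrp (hr.dvd_of_dvd_pow h6)
    · exact hr4 h6

/-- the orders divisible by `r` -/
theorem UD.uz {p q n r : ℕ} (ho : q % 2 = 1) (hr : r.Prime) (hr2 : r ≠ 2)
    (hrp : ¬ r ∣ p) (hrz : r ∣ (q ^ 2 + 1) / 2) (h : UD p q n) (hrn : r ∣ n) :
    n ∣ (q ^ 4 - 1) / 4 ∨ n ∣ p * ((q ^ 2 + 1) / 2) := by
  obtain ⟨a, z, hqa, hz, h1, h2, h3, h4, h5⟩ := odd_arith ho
  have h10 : r ∣ q ^ 2 + 1 := by rw [h1, ← hz]; exact hrz.mul_left 2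
  have hr4 : ¬ r ∣ q ^ 2 - 1 := by
    intro h
    have h7 := (Nat.dvd_sub h10 h)
    have h8 : q ^ 2 + 1 - (q ^ 2 - 1) = 2 := by omega
    rw [h8] at h7
    exact hr2 ((Nat.prime_dvd_prime_iff_eq hr Nat.prime_two).1 h7)
  have c1 := cube_sub_dvd q
  have h6 : ¬ r ∣ q ^ 6 - 1 := by
    intro h
    have h11 : (r : ℤ) ∣ (q : ℤ) ^ 2 + 1 := by exact_mod_cast h10
    have h12 : (r : ℤ) ∣ (q : ℤ) ^ 6 - 1 := by
      have h13 : ((q ^ 6 - 1 : ℕ) : ℤ) = (q : ℤ) ^ 6 - 1 := by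
        rw [Nat.cast_sub (Nat.one_le_pow _ _ (by omega))]; push_cast; ring
      rw [← h13]
      exact_mod_cast h
    have h13 : (r : ℤ) ∣ 2 := by
      have h14 : (2 : ℤ) = ((q : ℤ) ^ 2 + 1) * ((q : ℤ) ^ 4 - (q : ℤ) ^ 2 + 1) - ((q : ℤ) ^ 6 - 1) := by ring
      rw [h14]
      exact dvd_sub (h11.mul_right _) h12
    have h14 : r ∣ 2 := by exact_mod_cast h13
    exact hr2 ((Nat.prime_dvd_prime_iff_eq hr Nat.prime_two).1 h14)
  have ev : 2 ∣ q ^ 3 - 1 ∧ 2 ∣ q ^ 3 + 1 := by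
    have : q ^ 3 % 2 = 1 := by rw [Nat.pow_mod, ho]
    constructor <;> omega
  rcases h with h | h | h | h | h | ⟨-, h⟩
  · exfalso
    apply h6
    rw [← c1]
    exact ((hrn.trans h).trans (Nat.div_dvd_of_dvd ev.1)).mul_right _
  · exfalso
    apply h6
    rw [← c1]
    exact ((hrn.trans h).trans (Nat.div_dvd_of_dvd ev.2)).mul_left _
  · exact Or.inl h
  · exact Or.inr h
  · exfalso
    rcases hr.dvd_mul.1 (hrn.trans h) with h6 | h6
    · exact hrp h6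
    · exact hr4 h6
  · exfalso
    rcases hr.dvd_mul.1 (hrn.trans h) with h6 | h6
    · exact hrp (hr.dvd_of_dvd_pow h6)
    · exact hr4 h6

end Arith

end Cfsg.Agent.R2.Spec.X4
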