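import Cfsg.Agent.R2.Spec.X4.OwnAr
import Cfsg.Agent.R2.Spec.X4.Cent
import Cfsg.Agent.R2.Spec.X4.Borel
import Cfsg.Agent.R2.Spec.F1.MovCl
import Cfsg.Agent.H481.OddAut.Main
import Cfsg.Agent.H229.T.CentGen
import Cfsg.Agent.H229.T.FrobP

/-!
# Box X4 of S3435, own characteristic: `S ≅ Ω₇(q)` (helper19)

* `CB` : the setting; `CB.rad` : the primes of `K`; `CB.two` : `|K|` is odd; `CB.prime` : the prime `r`;
* `CB.cent` : `Ω₃(q)` in the centralizer of an element of order `r`; `CB.upper`.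
-/

set_option autoImplicit false
set_option linter.unusedSectionVars false

namespace Cfsg.Agent.R2.Spec.X4

open Subgroup QuadraticMap Module
open Cfsg.Agent.H376.Six (ap am ap_spec am_spec ap_dvd_half three_ap ap_ne ap_dvd_int)
open Cfsg.Agent.H420.QR (Red IsCoq card_eq_mul)
open Cfsg.Agent.H229.T (zt act mem_zt zt_ne_bot exists_commute Om D pow_eq two_ne_zero_of_odd exists_frob_sub
  exists_dvd_of_frob exists_pomega exists_dvd Om_le_O)
open Cfsg.Agent.H426.LieFam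
open Cfsg.Agent.LieClassical.OrthCore Cfsg.Agent.LieClassical.OrthForms Cfsg.Agent.LieClassical.OrthFinite
open Cfsg.Agent.H160 Cfsg.Agent.H160.QSpin Cfsg.Agent.H160.QDisc Cfsg.Agent.H160.QFinal

universe u

section

variable {G : Type u} [Group G] [Finite G]

/-- the setting -/
structure CB (p q k A k' B : ℕ) (W : ℕ → Prop) (F : Type) [Field F] [Fintype F] (K : Subgroup G) [K.Normal]
    (S : Subgroup (G ⧸ K)) [S.Normal] : Prop where
  R : Red G K S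
  nil : Group.IsNilpotent K
  hW : ∀ n : ℕ, W n ↔ ∃ g : G, orderOf g = n
  lw : LW p q k A k' B W
  card : Fintype.card F = q
  good : Good W (Nat.card K) S.index
  iso : Nonempty (↥S ≃* Cfsg.POmega F (Cfsg.quadFormOdd 3 F))

variable {p q k A k' B : ℕ} {W : ℕ → Prop} {F : Type} [Field F] [Fintype F] {K : Subgroup G} [K.Normal]
  {S : Subgroup (G ⧸ K)} [S.Normal] [hp : Fact p.Prime] [CharP F p]

theorem CB.sx (C : CB p q k A k' B W F K S) : SX p q k A k' B (Nat.card K) S.index W S :=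
  sx_of_red C.R C.nil C.lw C.hW

theorem CB.odd (C : CB p q k A k' B W F K S) : Odd (Fintype.card F) := by
  rw [C.card]; exact Nat.odd_iff.2 C.lw.q_odd

/-- the primes of `K` -/
theorem CB.rad (C : CB p q k A k' B W F K S) {s : ℕ} (hs : s.Prime) (hsK : s ∣ Nat.card K) (hsp : s ≠ p) :
    s ∣ (q ^ 3 - 1) / 2 := by
  obtain ⟨w, hw, hwk, hw2, hwp⟩ := C.lw.exists_ap
  have hq := C.lw.q2
  by_cases h : s = w
  · rw [h]
    exact hwk.trans (ap_dvd_half hq C.lw.q_odd)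
  obtain ⟨e, he⟩ := C.lw.qp
  obtain ⟨e0⟩ := C.iso
  have hpw : p ≠ w := fun h => hwp (by rw [h])
  have hcls : cls (.oodd 3) (p ^ e) w = 3 := by
    rw [← he]
    exact cls_ap hq hw hwk
  have hmov : F1.MovW S p w :=
    (F1.movA_fam_oodd (n := 3) hp.out ⟨le_rfl, by rw [← he]; exact Nat.odd_iff.2 C.lw.q_odd, F, inferInstance,
      inferInstance, inferInstance, by rw [C.card, he], ⟨e0⟩⟩ hw hw2 hwp (by rw [hcls]) (by rw [hcls])).movW
  have h1 := C.sx.kadj s p w hs hp.out hw hsK hw2 hpw (fun h => hsp h.symm) (fun h' => h h'.symm) hmov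
  exact (dvd_mul_left s w).trans (C.lw.uap hw hwk h1 (dvd_mul_right w s))

/-- a prime of `k` -/
theorem CB.exists_s (C : CB p q k A k' B W F K S) : ∃ s : ℕ, s.Prime ∧ s ≠ 2 ∧ s ≠ p ∧ s ∣ Nat.card S ∧ ¬ W (2 * s) := by
  have hk := C.lw.k_pos.1
  obtain ⟨s, hs, hsk⟩ := Nat.exists_prime_and_dvd hk.ne'
  obtain ⟨h7, -, hsq, -⟩ := C.lw.side.prime C.lw.q2 hs (Or.inl hsk)
  obtain ⟨x, hx⟩ := C.sx.kS C.good
  refine ⟨s, hs, by omega, ?_, ?_, C.lw.two hs hsk⟩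
  · rintro rfl
    exact hsq C.lw.p_dvd
  · refine hsk.trans ?_
    rw [← hx]
    exact orderOf_dvd_natCard x

/-- the group `Ω₇(q)` -/
theorem CB.exists_om (C : CB p q k A k' B W F K S) : ∃ φ : Om (oddForm 3 F) →* G ⧸ K, Function.Injective φ ∧
    (∀ x, φ x ∈ S) ∧ ∀ s ∈ S, ∃ x, φ x = s := by
  have h2 : (2 : F) ≠ 0 := two_ne_zero_of_odd C.odd
  obtain ⟨e⟩ := C.iso
  obtain ⟨f⟩ := exists_pomega h2 (nondeg_oddForm 3 F h2) (by simp) (by simp; decide)
  rw [← coe_oddForm] at e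
  let g := e.trans f
  refine ⟨S.subtype.comp g.symm.toMonoidHom, S.subtype_injective.comp g.symm.injective, fun x => (g.symm x).2,
    fun s hs => ⟨g ⟨s, hs⟩, ?_⟩⟩
  exact congrArg Subtype.val (g.symm_apply_apply ⟨s, hs⟩)

/-- `|K|` is odd -/
theorem CB.two (C : CB p q k A k' B W F K S) (hU : ∀ n, W n → UG p q n) : ¬ 2 ∣ Nat.card K := by
  classical
  intro h2K
  have h2 : (2 : F) ≠ 0 := two_ne_zero_of_odd C.odd
  have hq := C.lw.q2
  have hn0 : q ^ 2 - 1 ≠ 0 := by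
    have : 2 ^ 2 ≤ q ^ 2 := Nat.pow_le_pow_left hq 2
    omega
  obtain ⟨b, m, hm, hbm⟩ := Nat.exists_eq_pow_mul_and_not_dvd hn0 2 (by norm_num)
  have hb1 : 2 ^ b ∣ q ^ 2 - 1 := ⟨m, hbm⟩
  have hb2 : ¬ 2 ^ (b + 1) ∣ q ^ 2 - 1 := by
    rw [hbm, pow_succ]
    intro h
    exact hm (Nat.dvd_of_mul_dvd_mul_left (by positivity) h)
  obtain ⟨φ, hφ, hφS, -⟩ := C.exists_om
  obtain ⟨U, c, hc, hn, hfix, hU1, hU2⟩ := exists_frob_sub (p := p) h2 (nondeg_oddForm 3 F h2) (n := 3)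
    (by rw [finrank_fintype_fun_eq_card]; simp) (j := 1) (b := b) le_rfl (by norm_num) (by rw [C.card]; exact hb1)
  obtain ⟨s, hs, hs2, -, hsS, hsW⟩ := C.exists_s
  have hinj := act_inj C.R C.nil C.hW Nat.prime_two hs (fun h => hs2 h.symm) h2K hsS C.lw.dvd hsW
  obtain ⟨y, hy⟩ := exists_dvd_of_frob K Nat.prime_two (U.map φ) (c := φ c) (by
      rintro _ ⟨a, ha, rfl⟩
      exact ⟨c * a * c⁻¹, hn a ha, by rw [map_mul, map_mul, map_inv]⟩) (by
      rintro i hi0 hi _ ⟨a, ha, rfl⟩ hcomm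
      rw [orderOf_injective φ hφ] at hi
      rw [hfix i hi0 hi a ha (hφ (by rw [map_mul, map_mul, map_pow]; exact hcomm)), map_one]) (by
      have h3 : IsPGroup p (U.map φ) := hU1.map φ
      obtain ⟨n, hn⟩ := IsPGroup.iff_card.1 h3
      rw [hn]
      exact Nat.Coprime.pow_left _ ((Nat.coprime_primes hp.out Nat.prime_two).2 C.lw.p2)) (by
      by_contra hcon
      push Not at hcon
      apply hU2
      rw [eq_bot_iff]
      intro a ha
      rw [Subgroup.mem_bot]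
      apply hφ
      rw [map_one]
      have h3 : act K 2 (φ a) = 1 := MulEquiv.ext (hcon _ ⟨a, ha, rfl⟩)
      have h4 : (⟨φ a, hφS a⟩ : S) = 1 := hinj (by
        show act K 2 (φ a) = act K 2 ((1 : S) : G ⧸ K)
        rw [h3, Subgroup.coe_one, map_one])
      exact congrArg Subtype.val h4)
  rw [orderOf_injective φ hφ, hc, ← pow_succ] at hy
  exact (hU _ ((C.hW _).2 ⟨y, rfl⟩)).two hp.out C.lw.p2 C.lw.q_odd hq hb2 hy

/-- the prime `r` -/
theorem CB.prime (C : CB p q k A k' B W F K S) : ∃ r : ℕ, r.Prime ∧ r ≠ 2 ∧ ¬ r ∣ p ∧ r ∣ (q ^ 2 + 1) / 2 ∧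
    orderOf (q : ZMod r) = 4 ∧ ¬ r ∣ Nat.card K ∧ ∀ z x : G ⧸ K, orderOf z = r → Commute x z → x ∈ S := by
  obtain ⟨e, r, he1, he, hr, hr2, hrp, hrz, ho, hqo⟩ := C.lw.own_prime_exact
  refine ⟨r, hr, hr2, hrp, hrz, hqo, ?_, ?_⟩
  · intro h
    have h1 := C.rad hr h (fun h => hrp (by rw [h]))
    obtain ⟨-, -, hA, hB, -⟩ := C.lw.side.z_prime C.lw.q2 hr hrz
    rcases C.lw.side with ⟨-, -, h2, -, -⟩ | ⟨-, -, -, -, h2⟩
    · exact hA (by rw [h2]; exact h1)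
    · exact hB (by rw [h2]; exact h1)
  · intro z x hz hx
    obtain ⟨e0⟩ := C.iso
    obtain ⟨s, hs, hs2, hsp, hsS, hsW⟩ := C.exists_s
    refine Cfsg.Agent.H481.OddAut.mem (p := p) (f := e) (by rw [C.card, he]) C.odd (n := 3) le_rfl S C.R.cent e0 hs hs2
      hsp hsS ?_ hr (Or.inl (by norm_num : 3 < 4)) ho hz hx
    intro y hy
    exact hsW ((C.hW _).2 (by rw [← hy]; exact F1.exists_of_quot ⟨y, rfl⟩))

/-- the order modulo `K` -/
theorem order_quot {r : ℕ} (hr : r.Prime) (hrK : ¬ r ∣ Nat.card K) {a : G}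
    (ha : orderOf a = r) : orderOf (a : G ⧸ K) = r := by
  have h3 : orderOf (a : G ⧸ K) ∣ r := by
    rw [← ha]
    exact orderOf_map_dvd (QuotientGroup.mk' K) a
  rcases (Nat.dvd_prime hr).1 h3 with h4 | h4
  · exfalso
    rw [orderOf_eq_one_iff, QuotientGroup.eq_one_iff] at h4
    apply hrK
    rw [← ha]
    exact Subgroup.orderOf_dvd_natCard K h4
  · exact h4

theorem CB.rq (C : CB p q k A k' B W F K S) {r : ℕ} (hrz : r ∣ (q ^ 2 + 1) / 2) :
    r ∣ Fintype.card F ^ 2 + 1 := by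
  rw [C.card, ← C.lw.side.z.1]
  exact hrz.mul_left 2

/-- **`Ω₃(q)` in the centralizer** -/
theorem CB.cent (C : CB p q k A k' B W F K S) {r : ℕ} (hr : r.Prime) (hr2 : r ≠ 2) (hrz : r ∣ (q ^ 2 + 1) / 2)
    (hqo : orderOf (q : ZMod r) = 4) (hrK : ¬ r ∣ Nat.card K)
    (hmem : ∀ z x : G ⧸ K, orderOf z = r → Commute x z → x ∈ S) {a : G} (ha : orderOf a = r) :
    ∃ (c : F) (_ : c ≠ 0) (φ : Om (D F 3 c) →* G ⧸ K), Function.Injective φ ∧
      ∀ x, Commute (φ x) (a : G ⧸ K) := by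
  classical
  have h2 : (2 : F) ≠ 0 := two_ne_zero_of_odd C.odd
  obtain ⟨φ, hφ, hφS, hφe⟩ := C.exists_om
  have hzo := order_quot hr hrK ha
  obtain ⟨x, hx⟩ := hφe _ (hmem _ _ hzo (Commute.refl _))
  have hxo : orderOf x.1 = r := by
    rw [Subgroup.orderOf_coe, ← orderOf_injective φ hφ, hx, hzo]
  obtain ⟨c3, hc3, f3, hf3, hcomm⟩ := Cfsg.Agent.H229.T.exists_cent (F := F) h2 (nondeg_oddForm 3 F h2) (m := 2) (t := 3)
    (by norm_num) (by norm_num) (by decide) (by rw [finrank_fintype_fun_eq_card]; simp) hr hr2 (Or.inr (C.rq hrz))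
    (Cfsg.Agent.H229.T.prim_dvd (m := 2) Fintype.card_pos (Or.inl (by rw [C.card]; exact hqo)))
    (Om_le_O _ x.2) hxo
  refine ⟨c3, hc3, φ.comp f3, hφ.comp hf3, fun y => ?_⟩
  show φ (f3 y) * (a : G ⧸ K) = (a : G ⧸ K) * φ (f3 y)
  rw [← hx, ← map_mul, ← map_mul]
  congr 1
  exact Subtype.ext (hcomm y).symm

/-- **no element of `S` of order divisible by `2 p r`** -/
theorem CB.upper (C : CB p q k A k' B W F K S) {r : ℕ} (hr : r.Prime) (hr2 : r ≠ 2) (hrz : r ∣ (q ^ 2 + 1) / 2)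
    (hqo : orderOf (q : ZMod r) = 4) {s : G ⧸ K} (hs : s ∈ S) (hd : p * (r * 2 ^ 1) ∣ orderOf s) : False := by
  classical
  have h2 : (2 : F) ≠ 0 := two_ne_zero_of_odd C.odd
  obtain ⟨φ, hφ, hφS, hφe⟩ := C.exists_om
  obtain ⟨x, hx⟩ := hφe s hs
  have hq1 : q % 4 = 1 ∨ q % 4 = 3 := by have := C.lw.q_odd; omega
  have h5 := Cfsg.Agent.H229.T.upper (p := p) (F := F) h2 (nondeg_oddForm 3 F h2) (m := 2) (t := 3) (j := 1) (b := 1)
    (r := r) (by norm_num) (by norm_num) (by decide) (by rw [finrank_fintype_fun_eq_card]; simp) hr hr2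
    (Or.inr (C.rq hrz)) (Cfsg.Agent.H229.T.prim_dvd (m := 2) Fintype.card_pos (Or.inl (by rw [C.card]; exact hqo)))
    le_rfl (by simp) x.2 (by
      rw [Subgroup.orderOf_coe, ← orderOf_injective φ hφ, hx, pow_one]
      exact hd)
  rw [C.card] at h5
  obtain ⟨-, -, -, -, hrn⟩ := C.lw.side.z_prime C.lw.q2 hr hrz
  rcases h5 with h5 | h5
  · apply hrn
    exact (Dvd.intro_left (2 * 2 ^ 1) (by ring)).trans h5
  · have h6 : 4 ∣ q ^ 2 + 1 := (Dvd.intro r (by ring)).trans h5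
    have h7 : q ^ 2 % 4 = 1 := by
      rcases hq1 with h | h <;> rw [Nat.pow_mod, h]
    omega

end

end Cfsg.Agent.R2.Spec.X4
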