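import Cfsg.Agent.R2.Spec.X4.OwnB3x

/-!
# Box X4 of S3435, own characteristic: `S ≅ Ω₇(q)` is impossible for `L = PΩ₈⁺(q)` (helper19)
-/

set_option autoImplicit false
set_option linter.unusedSectionVars false

namespace Cfsg.Agent.R2.Spec.X4

open Subgroup QuadraticMap Module Finset
open Cfsg.Agent.H376.Six (ap am ap_spec am_spec ap_dvd_half three_ap ap_ne ap_dvd_int)
open Cfsg.Agent.H420.QR (Red IsCoq card_eq_mul)
open Cfsg.Agent.H229.T (zt act mem_zt zt_ne_bot exists_commute Om D pow_eq two_ne_zero_of_odd exists_frob_sub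
  exists_dvd_of_frob exists_pomega exists_dvd Om_le_O exists_order dvd_order frob_sub zv)
open Cfsg.Agent.H426.LieFam
open Cfsg.Agent.LieClassical.OrthCore Cfsg.Agent.LieClassical.OrthForms Cfsg.Agent.LieClassical.OrthFinite
open Cfsg.Agent.H160 Cfsg.Agent.H160.QSpin Cfsg.Agent.H160.QDisc Cfsg.Agent.H160.QFinal

universe u

/-- `(q⁴ - 1)/4` is not the order of an element of `Ω₇(q)` -/
theorem UB.not_four {p q r : ℕ} (ho : q % 2 = 1) (hq : 7 ≤ q) (hp : p.Prime) (hpq : p ∣ q) (hr : r.Prime) (hr2 : r ≠ 2)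
    (hrp : ¬ r ∣ p) (hrA : ¬ r ∣ (q ^ 3 - 1) / 2) (hrB : ¬ r ∣ (q ^ 3 + 1) / 2)
    (hrz : r ∣ (q ^ 2 + 1) / 2) (h : UC p q ((q ^ 4 - 1) / 4)) : False := by
  obtain ⟨a, z, hqa, hz, h1, h2, h3, h4, h5⟩ := odd_arith ho
  have hr4 : ¬ r ∣ q ^ 2 - 1 := by
    intro h
    have h6 : r ∣ q ^ 2 + 1 := by rw [h1, ← hz]; exact hrz.mul_left 2
    have h7 := (Nat.dvd_sub h6 h)
    have h8 : q ^ 2 + 1 - (q ^ 2 - 1) = 2 := by omega
    rw [h8] at h7
    exact hr2 ((Nat.prime_dvd_prime_iff_eq hr Nat.prime_two).1 h7)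
  have hz0 : 0 < z := by omega
  have ha : 3 ≤ a := by omega
  have hrN : r ∣ (q ^ 4 - 1) / 4 := by
    rw [h5]
    rw [hz] at hrz
    exact (hrz.mul_right _).mul_left 2
  have hq1 : q - 1 = 2 * a := by omega
  have hq2 : q + 1 = 2 * (a + 1) := by omega
  rcases h with h | h | h | h | h | h | ⟨-, h⟩
  · exact hrA (hrN.trans h)
  · exact hrB (hrN.trans h)
  · rw [h5, hz, hq1, mul_left_comm z 2 a] at h
    have h6 := Nat.dvd_of_mul_dvd_mul_left hz0 (Nat.dvd_of_mul_dvd_mul_left (by norm_num) h)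
    have h7 := Nat.le_of_dvd (by omega) h6
    nlinarith
  · rw [h5, hz, hq2, mul_left_comm z 2 (a + 1)] at h
    have h6 := Nat.dvd_of_mul_dvd_mul_left hz0 (Nat.dvd_of_mul_dvd_mul_left (by norm_num) h)
    have h7 := Nat.le_of_dvd (by omega) h6
    nlinarith
  · rw [h5, h1, mul_left_comm p 2 z] at h
    have h6 : z * (a * (a + 1)) ∣ z * p := by
      rw [mul_comm z p]
      exact Nat.dvd_of_mul_dvd_mul_left (by norm_num) h
    have h7 := Nat.dvd_of_mul_dvd_mul_left hz0 h6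
    rcases (Nat.dvd_prime hp).1 h7 with h8 | h8
    · have h9 : a ≤ a * (a + 1) := Nat.le_mul_of_pos_right a (by omega)
      rw [h8] at h9
      omega
    · have h9 : 2 ∣ p := by
        rw [← h8]
        exact (Nat.even_mul_succ_self a).two_dvd
      have h10 := h9.trans hpq
      omega
  · rcases hr.dvd_mul.1 (hrN.trans h) with h6 | h6
    · exact hrp h6
    · exact hr4 h6
  · rcases hr.dvd_mul.1 (hrN.trans h) with h6 | h6
    · exact hrp (hr.dvd_of_dvd_pow h6)
    · exact hr4 h6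

section

variable {G : Type u} [Group G] [Finite G]
  {p q k A k' B : ℕ} {W : ℕ → Prop} {F : Type} [Field F] [Fintype F] {K : Subgroup G} [K.Normal]
  {S : Subgroup (G ⧸ K)} [S.Normal] [hp : Fact p.Prime] [CharP F p]

/-- **`L = PΩ₈⁺(q)`.** -/
theorem CB.oc3 (C : CB p q k A k' B W F K S) (hU : ∀ n, W n → UD p q n) (hS : ∀ x : S, UB p q (orderOf x))
    (hD : W ((q ^ 4 - 1) / 4)) : False := by
  classical
  have h2 : (2 : F) ≠ 0 := two_ne_zero_of_odd C.odd
  have hp2 := C.lw.p2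
  have hq := C.lw.q2
  have h7 := C.lw.q7
  have ho := C.lw.q_odd
  have hpq := C.lw.p_dvd
  have h2K := C.two (fun n hn => (hU n hn).toG ho)
  obtain ⟨α, z, hqa, hz, e1, e2, e3, e4, e5⟩ := odd_arith ho
  obtain ⟨r, hr, hr2, hrp, hrz, hqo, hrK, hmem⟩ := C.prime
  obtain ⟨-, -, hrA, hrB, hrn⟩ := C.lw.side.z_prime hq hr hrz
  obtain ⟨g, hg⟩ := (C.hW _).1 hD
  -- the element `a`
  obtain ⟨j, hj⟩ := exists_pow_of_dvd (g := g) (r := r) (by
    rw [hg, e5]
    rw [hz] at hrz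
    exact (hrz.mul_right _).mul_left 2)
  obtain ⟨a, ha⟩ : ∃ a, a = g ^ j := ⟨_, rfl⟩
  rw [← ha] at hj
  have hga : Commute g a := by rw [ha]; exact (Commute.refl g).pow_right _
  have hgS : (g : G ⧸ K) ∈ S := by
    apply hmem _ _ (order_quot hr hrK hj)
    rw [ha, QuotientGroup.mk_pow]
    exact (Commute.refl _).pow_right _
  obtain ⟨c', hc', hc'', hcK⟩ := exists_order K g
  have hc1 : c' = 1 := by
    by_contra hne
    obtain ⟨t, ht, htc⟩ := Nat.exists_prime_and_dvd hne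
    have htf := Fact.mk ht
    have htK : t ∣ Nat.card K := by
      refine htc.trans ?_
      rw [← hc'']
      exact Subgroup.orderOf_dvd_natCard K hcK
    have ht2 : t ≠ 2 := by rintro rfl; exact h2K htK
    have htN : t ∣ q ^ 4 - 1 := by
      have h3 : t ∣ (q ^ 4 - 1) / 4 := by rw [← hg, hc']; exact htc.mul_left _
      rw [e5] at h3
      rw [e4]
      exact h3.trans ⟨4, by ring⟩
    have htp : t ≠ p := by
      rintro rfl
      have h3 : t ∣ q ^ 4 := hpq.trans (dvd_pow_self q (by norm_num))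
      have h4 := Nat.dvd_sub h3 htN
      have h5 : 1 ≤ q ^ 4 := Nat.one_le_pow _ _ (by omega)
      rw [show q ^ 4 - (q ^ 4 - 1) = 1 by omega] at h4
      exact ht.one_lt.ne' (Nat.dvd_one.1 h4)
    have ht3 : t ∣ q ^ 3 - 1 := by
      have ev : 2 ∣ q ^ 3 - 1 := by
        have : q ^ 3 % 2 = 1 := by rw [Nat.pow_mod, ho]
        omega
      exact (C.rad ht htK htp).trans (Nat.div_dvd_of_dvd ev)
    have ht1 : t ∣ q - 1 := by
      have h3 := Nat.dvd_sub htN ((ht3.mul_left q))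
      have h4 : q ^ 4 - 1 - q * (q ^ 3 - 1) = q - 1 := by
        have h5 : q * (q ^ 3 - 1) = q ^ 4 - q := by rw [Nat.mul_sub, mul_one]; congr 1; ring
        have h6 : q ≤ q ^ 4 := Nat.le_self_pow (by norm_num) q
        omega
      rwa [h4] at h3
    -- the part of `q - 1`
    obtain ⟨i, m, hm, him⟩ := Nat.exists_eq_pow_mul_and_not_dvd (n := q - 1) (by omega) t ht.one_lt.ne'
    have hi2 : ¬ t ^ (i + 1) ∣ q ^ 4 - 1 := by
      intro h3
      have h4 : q ^ 4 - 1 = (q - 1) * ((q + 1) * (q ^ 2 + 1)) := by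
        have h5 : q = 2 * α + 1 := hqa
        have h6 : q - 1 = 2 * α := by omega
        have h8 : q ^ 4 = (2 * α) * ((q + 1) * (q ^ 2 + 1)) + 1 := by rw [h5]; ring
        rw [h6]
        omega
      have h5 : ¬ t ∣ (q + 1) * (q ^ 2 + 1) := by
        intro h5
        rcases ht.dvd_mul.1 h5 with h6 | h6
        · have h8 := Nat.dvd_sub h6 ht1
          rw [show q + 1 - (q - 1) = 2 by omega] at h8
          exact ht2 ((Nat.prime_dvd_prime_iff_eq ht Nat.prime_two).1 h8)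
        · have h8 : t ∣ (q - 1) * (q + 1) := ht1.mul_right _
          have h9 : q ^ 2 + 1 = (q - 1) * (q + 1) + 2 := by
            obtain ⟨c, hc⟩ : ∃ c, q = c + 1 := ⟨q - 1, by omega⟩
            rw [hc, Nat.add_sub_cancel]; ring
          rw [h9] at h6
          exact ht2 ((Nat.prime_dvd_prime_iff_eq ht Nat.prime_two).1 ((Nat.dvd_add_right h8).1 h6))
      rw [h4] at h3
      have h6 : t ^ (i + 1) ∣ q - 1 :=
        (Nat.Coprime.pow_left _ ((Nat.Prime.coprime_iff_not_dvd ht).2 h5)).dvd_of_dvd_mul_right h3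
      rw [him, pow_succ] at h6
      exact hm (Nat.dvd_of_mul_dvd_mul_left (pow_pos ht.pos i) h6)
    -- an element of the field
    obtain ⟨l, hl⟩ : ∃ l : Fˣ, orderOf l = t ^ i := by
      have hc : Nat.card Fˣ = q - 1 := by
        rw [Nat.card_units, Nat.card_eq_fintype_card, C.card]
      obtain ⟨x, hx⟩ := IsCyclic.exists_generator (α := Fˣ)
      have h3 := orderOf_eq_card_of_forall_mem_zpowers hx
      rw [hc, him] at h3
      have hm0 : m ≠ 0 := by rintro rfl; exact hm (dvd_zero _)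
      exact ⟨x ^ m, by
        rw [orderOf_pow_of_dvd hm0 (by rw [h3]; exact dvd_mul_left m _), h3, Nat.mul_div_cancel _ (Nat.pos_of_ne_zero hm0)]⟩
    -- the centralizer
    obtain ⟨i1, hi1⟩ := exists_pow_of_dvd (g := g ^ orderOf (g : G ⧸ K)) (r := t) (by rw [hc'']; exact htc)
    have hex : ∃ k ∈ K, orderOf k = t ∧ Commute k a :=
      ⟨_, K.pow_mem hcK i1, hi1, by rw [← pow_mul]; exact hga.pow_left _⟩
    obtain ⟨c, hc, φ, hφ, hcomm⟩ := C.cent hr hr2 hrz hqo hrK hmem hj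
    obtain ⟨G1, K1, _, ψ, hψ, hK1, htK1, hcen⟩ := cent_setup C.nil hr ht hrK hj φ hφ hcomm hex
    have hkey : ∀ (y : G1) (m : ℕ), m ∣ orderOf y → ∃ n, W n ∧ m ∣ n ∧ r ∣ n := by
      intro y m hm
      obtain ⟨x, hx1, hx2⟩ := exists_lcm_of_commute hj (y := (y : G)) (m := m)
        (by rw [Subgroup.orderOf_coe]; exact hm) (hcen y)
      exact ⟨_, (C.hW _).2 ⟨x, rfl⟩, hx1, hx2⟩
    have hto : Odd t := ht.odd_of_ne_two ht2
    obtain ⟨u, τ, hu, hτ, hconj⟩ := exists_borel (p := p) h2 hc (l := l) (by rw [hl]; exact hto.pow)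
    obtain ⟨q1, q2, q3, q4⟩ := frob_sub (p := p) hu (c := τ) (ζ := l) hτ.symm hconj
    have hpow : ∀ n, W n → r ∣ n → ¬ t ^ (i + 1) ∣ n := by
      intro n hn hrn h3
      rcases (hU n hn).uz ho hr hr2 hrp hrz hrn with h4 | h4
      · apply hi2
        refine (h3.trans h4).trans ?_
        rw [e5, e4]
        exact ⟨4, by ring⟩
      · rcases ht.dvd_mul.1 (((dvd_pow_self t (Nat.succ_ne_zero i)).trans h3).trans h4) with h5 | h5
        · exact htp ((Nat.prime_dvd_prime_iff_eq ht hp.out).1 h5)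
        · have h6 : t ∣ q ^ 2 + 1 := by rw [e1, ← hz]; exact h5.mul_left 2
          have h8 : t ∣ (q - 1) * (q + 1) := ht1.mul_right _
          have h9 : q ^ 2 + 1 = (q - 1) * (q + 1) + 2 := by
            obtain ⟨c, hc⟩ : ∃ c, q = c + 1 := ⟨q - 1, by omega⟩
            rw [hc, Nat.add_sub_cancel]; ring
          rw [h9] at h6
          exact ht2 ((Nat.prime_dvd_prime_iff_eq ht Nat.prime_two).1 ((Nat.dvd_add_right h8).1 h6))
    by_cases htriv : ∃ b ∈ u.range.map ψ, ∃ v : zt K1 t, act K1 t b v ≠ v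
    · obtain ⟨y, hy⟩ := exists_dvd_of_frob K1 ht (u.range.map ψ) (c := ψ τ) (by
          rintro _ ⟨b, hb, rfl⟩
          exact ⟨τ * b * τ⁻¹, q1 b hb, by rw [map_mul, map_mul, map_inv]⟩) (by
          rintro i hi0 hi _ ⟨b, hb, rfl⟩ hcomm
          rw [orderOf_injective ψ hψ] at hi
          rw [q2 i hi0 hi b hb (hψ (by rw [map_mul, map_mul, map_pow]; exact hcomm)), map_one]) (by
          have h3 : IsPGroup p (u.range.map ψ) := q3.map ψ
          obtain ⟨n, hn⟩ := IsPGroup.iff_card.1 h3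
          rw [hn]
          exact Nat.Coprime.pow_left _ ((Nat.coprime_primes hp.out ht).2 htp.symm)) htriv
      obtain ⟨n, hn, h3, h4⟩ := hkey y _ hy
      rw [orderOf_injective ψ hψ, hτ, hl, ← pow_succ] at h3
      exact hpow n hn h4 h3
    · push Not at htriv
      obtain ⟨w, hw0, hw1⟩ := zt_ne_bot (K := K1) hK1 ht htK1
      have hwo : orderOf w = t := orderOf_eq_prime hw0.2.2 hw1
      obtain ⟨y, hy⟩ := QuotientGroup.mk_surjective (ψ (u (Multiplicative.ofAdd 1)))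
      have hyw : Commute y w := by
        apply exists_commute K1 (t := t) (v := ⟨w, hw0⟩)
        rw [hy]
        exact htriv _ ⟨_, ⟨_, rfl⟩, rfl⟩ _
      have huo : orderOf (ψ (u (Multiplicative.ofAdd 1))) = p := by
        rw [orderOf_injective ψ hψ, orderOf_injective u hu]
        apply orderOf_eq_prime
        · show Multiplicative.ofAdd (p • (1 : F)) = 1
          rw [nsmul_eq_mul, CharP.cast_eq_zero, zero_mul]
          rfl
        · intro h3
          exact one_ne_zero (congrArg Multiplicative.toAdd h3 : (1 : F) = 0)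
      have hpy : p ∣ orderOf y := by
        rw [← huo, ← hy]
        exact orderOf_map_dvd (QuotientGroup.mk' K1) y
      obtain ⟨x, -, hx⟩ := hyw.exists_orderOf_eq_lcm
      obtain ⟨n, hn, h3, h4⟩ := hkey x _ dvd_rfl
      rw [hx, hwo] at h3
      rcases (hU n hn).uz ho hr hr2 hrp hrz h4 with h5 | h5
      · have h6 : p ∣ q ^ 4 - 1 := by
          refine ((hpy.trans ((Nat.dvd_lcm_left _ _).trans h3)).trans h5).trans ?_
          rw [e5, e4]
          exact ⟨4, by ring⟩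
        have h3 : p ∣ q ^ 4 := hpq.trans (dvd_pow_self q (by norm_num))
        have h4 := Nat.dvd_sub h3 h6
        have h5 : 1 ≤ q ^ 4 := Nat.one_le_pow _ _ (by omega)
        rw [show q ^ 4 - (q ^ 4 - 1) = 1 by omega] at h4
        exact hp.out.one_lt.ne' (Nat.dvd_one.1 h4)
      · rcases ht.dvd_mul.1 (((Nat.dvd_lcm_right _ _).trans h3).trans h5) with h5 | h5
        · exact htp ((Nat.prime_dvd_prime_iff_eq ht hp.out).1 h5)
        · have h6 : t ∣ q ^ 2 + 1 := by rw [e1, ← hz]; exact h5.mul_left 2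
          have h8 : t ∣ (q - 1) * (q + 1) := ht1.mul_right _
          have h9 : q ^ 2 + 1 = (q - 1) * (q + 1) + 2 := by
            obtain ⟨c, hc⟩ : ∃ c, q = c + 1 := ⟨q - 1, by omega⟩
            rw [hc, Nat.add_sub_cancel]; ring
          rw [h9] at h6
          exact ht2 ((Nat.prime_dvd_prime_iff_eq ht Nat.prime_two).1 ((Nat.dvd_add_right h8).1 h6))
  -- the element of `S`
  have h3 := hS ⟨(g : G ⧸ K), hgS⟩
  have h4 : orderOf (⟨(g : G ⧸ K), hgS⟩ : S) = (q ^ 4 - 1) / 4 := by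
    rw [← Subgroup.orderOf_coe, ← hg, hc', hc1, mul_one]
  rw [h4] at h3
  have hAB : ¬ r ∣ (q ^ 3 - 1) / 2 ∧ ¬ r ∣ (q ^ 3 + 1) / 2 := by
    rcases C.lw.side with ⟨-, -, h2, -, h2'⟩ | ⟨-, -, h2, -, h2'⟩
    · rw [← h2, ← h2']; exact ⟨hrA, hrB⟩
    · rw [← h2, ← h2']; exact ⟨hrB, hrA⟩
  exact UB.not_four ho h7 hp.out hpq hr hr2 hrp hAB.1 hAB.2 hrz (h3.toC ho)

end

end Cfsg.Agent.R2.Spec.X4
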